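import Cfsg.Agent.OddStep.Interface
import Cfsg.Agent.S0001
import Mathlib.GroupTheory.Solvable
import Mathlib.GroupTheory.Sylow
import Mathlib.GroupTheory.QuotientGroup.Basic
import Mathlib.GroupTheory.Index

/-!
# First consequences of the odd order theorem

All results take the odd order theorem as an explicit hypothesis `hFT : CfsgLib.OddStep.P0205`.
-/

set_option autoImplicit false

open Pointwise

namespace CfsgLib.OddCons.Basic

universe u

variable {G : Type u} [Group G] [Finite G]

/-- A finite non-solvable group has even order. -/
theorem even_card_of_not_isSolvable (hFT : CfsgLib.OddStep.P0205.{u})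
    (h : ¬ Group.IsSolvable G) : Even (Nat.card G) :=
  (Nat.even_or_odd (Nat.card G)).resolve_right fun ho => h (hFT ho)

/-- A finite non-solvable group contains an involution. -/
theorem exists_involution (hFT : CfsgLib.OddStep.P0205.{u})
    (h : ¬ Group.IsSolvable G) : ∃ t : G, orderOf t = 2 := by
  haveI : Fact (Nat.Prime 2) := ⟨Nat.prime_two⟩
  exact exists_prime_orderOf_dvd_card' 2 (even_card_of_not_isSolvable hFT h).two_dvd

/-- A finite non-abelian simple group is not solvable. -/
theorem not_isSolvable_of_simple {G : Type u} [Group G] [IsSimpleGroup G]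
    (h : ¬ IsMulCommutative G) : ¬ Group.IsSolvable G := fun hs =>
  h ⟨⟨(IsSimpleGroup.comm_iff_isSolvable.2 hs : ∀ a b : G, a * b = b * a)⟩⟩

/-- A finite non-abelian simple group has even order. -/
theorem even_card_of_simple (hFT : CfsgLib.OddStep.P0205.{u}) [IsSimpleGroup G]
    (h : ¬ IsMulCommutative G) : Even (Nat.card G) :=
  even_card_of_not_isSolvable hFT (not_isSolvable_of_simple h)

/-- A subgroup of odd order is solvable. -/
theorem isSolvable_of_odd (hFT : CfsgLib.OddStep.P0205.{u}) (H : Subgroup G)
    (h : Odd (Nat.card H)) : Group.IsSolvable H :=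
  hFT h

/-- Extension of solvable groups. -/
theorem isSolvable_of_normal {G : Type u} [Group G] (N : Subgroup G) [N.Normal]
    (hN : Group.IsSolvable N) (hQ : Group.IsSolvable (G ⧸ N)) : Group.IsSolvable G :=
  solvable_of_ker_le_range N.subtype (QuotientGroup.mk' N) (by simp)

/-- Induction for solvability: if a property is inherited by proper normal subgroups and proper
quotients, it implies solvability as soon as it does so for simple groups. -/
theorem solvable_induction (P : ∀ (H : Type u) [Group H], Prop)
    (hsub : ∀ (H : Type u) [Group H] [Finite H] (N : Subgroup H), P H → N.Normal → P N)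
    (hquo : ∀ (H : Type u) [Group H] [Finite H] (N : Subgroup H) [N.Normal], P H → P (H ⧸ N))
    (hsimple : ∀ (H : Type u) [Group H] [Finite H] [IsSimpleGroup H], P H →
      Group.IsSolvable H) :
    ∀ (G : Type u) [Group G] [Finite G], P G → Group.IsSolvable G := by
  suffices h : ∀ (n : ℕ) (G : Type u) [Group G] [Finite G], Nat.card G ≤ n → P G →
      Group.IsSolvable G from fun G _ _ hP => h _ G le_rfl hP
  intro n
  induction n with
  | zero =>
    intro G _ _ hc _
    have : 0 < Nat.card G := Nat.card_pos
    omega
  | succ n ih =>
    intro G _ _ hc hP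
    rcases subsingleton_or_nontrivial G with h | h
    · infer_instance
    by_cases hs : ∃ N : Subgroup G, N.Normal ∧ N ≠ ⊥ ∧ N ≠ ⊤
    · obtain ⟨N, hN, hNb, hNt⟩ := hs
      have h1 : Nat.card N < Nat.card G := by
        rcases lt_or_eq_of_le (Subgroup.card_le_card_group N) with h | h
        · exact h
        · exact absurd (Subgroup.eq_top_of_card_eq N h) hNt
      have h2 : Nat.card (G ⧸ N) < Nat.card G := by
        have hN1 : 1 < Nat.card N := (Subgroup.one_lt_card_iff_ne_bot N).2 hNb
        rw [Subgroup.card_eq_card_quotient_mul_card_subgroup N]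
        exact lt_mul_of_one_lt_right Nat.card_pos hN1
      exact isSolvable_of_normal N (ih _ (by omega) (hsub G N hP hN))
        (ih _ (by omega) (hquo G N hP))
    · haveI : IsSimpleGroup G := ⟨fun N hN => by
        by_contra hh
        push_neg at hh
        exact hs ⟨N, hN, hh.1, hh.2⟩⟩
      exact hsimple G hP

/-- Schur–Zassenhaus conjugacy, without a solvability hypothesis. -/
theorem complement_conj (hFT : CfsgLib.OddStep.P0205.{u}) (N : Subgroup G) [N.Normal]
    (hN : (Nat.card N).Coprime N.index)
    (H K : Subgroup G) (hH : Subgroup.IsComplement' N H) (hK : Subgroup.IsComplement' N K) :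
    ∃ g : G, MulAut.conj g • H = K := by
  refine Cfsg.Agent.S0001.result N hN ?_ H K hH hK
  rcases Nat.even_or_odd (Nat.card N) with h | h
  · right
    have h2 : Odd N.index := by
      rcases Nat.even_or_odd N.index with h' | h'
      · exact absurd hN (Nat.not_coprime_of_dvd_of_dvd one_lt_two h.two_dvd h'.two_dvd)
      · exact h'
    exact hFT (by rwa [← Subgroup.index_eq_card])
  · exact Or.inl (hFT h)

end CfsgLib.OddCons.Basic
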