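import Cfsg.Agent.CoprimeHall.Basic
import Cfsg.Agent.ClassSizes.ConjRange
import Mathlib

/-!
# Class sizes in normal subgroups, quotients and Sylow subgroups
-/

set_option autoImplicit false

namespace CfsgLib.OddCons.ClassLemmas

variable {G : Type*} [Group G]

theorem index_centralizer_subgroup_dvd [Finite G] (N : Subgroup G) [N.Normal] (x : N) :
    (Subgroup.centralizer ({x} : Set N)).index ∣ (Subgroup.centralizer ({(x : G)} : Set G)).index := by
  have h1 : Subgroup.centralizer ({x} : Set N) =
      (Subgroup.centralizer ({(x : G)} : Set G)).subgroupOf N := by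
    ext y
    simp [Subgroup.mem_centralizer_singleton_iff, Subgroup.mem_subgroupOf, Subtype.ext_iff]
  rw [h1]
  show (Subgroup.centralizer ({(x : G)} : Set G)).relIndex N ∣ _
  rw [← CfsgLib.CoprimeHall.relIndex_sup_eq_left
    (le_of_le_of_eq le_top (Subgroup.normalizer_eq_top N).symm)]
  exact Subgroup.relIndex_dvd_index_of_le le_sup_left

theorem index_centralizer_quotient_dvd (N : Subgroup G) [N.Normal] (x : G) :
    (Subgroup.centralizer ({(QuotientGroup.mk' N x)} : Set (G ⧸ N))).index ∣
      (Subgroup.centralizer ({x} : Set G)).index := by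
  refine dvd_trans (Subgroup.index_dvd_of_le ?_)
    (Subgroup.index_map_dvd _ (QuotientGroup.mk'_surjective N))
  rintro _ ⟨y, hy, rfl⟩
  rw [Subgroup.mem_centralizer_singleton_iff, ← map_mul, ← map_mul,
    Subgroup.mem_centralizer_singleton_iff.1 hy]

/-- A Sylow subgroup has a subgroup of index dividing the `p`-part of the class size of `y`
centralizing `y`. -/
theorem exists_sylow_centralizing [Finite G] {p : ℕ} [hp : Fact p.Prime] (y : G) :
    ∃ (R : Sylow p G) (T : Subgroup G), T ≤ (R : Subgroup G) ∧
      T ≤ Subgroup.centralizer ({y} : Set G) ∧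
      T.relIndex (R : Subgroup G) =
        p ^ ((Subgroup.centralizer ({y} : Set G)).index.factorization p) := by
  set C := Subgroup.centralizer ({y} : Set G)
  set Q : Sylow p C := default
  set T := (Q : Subgroup C).map C.subtype
  have hTp : IsPGroup p T := Q.isPGroup'.map _
  obtain ⟨R, hR⟩ := hTp.exists_le_sylow
  refine ⟨R, T, hR, Subgroup.map_subtype_le _, ?_⟩
  have h1 := Subgroup.relIndex_mul_relIndex ⊥ T (R : Subgroup G) bot_le hR
  rw [Subgroup.relIndex_bot_left, Subgroup.relIndex_bot_left,
    show Nat.card T = p ^ (Nat.card C).factorization p by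
      rw [Subgroup.card_map_of_injective C.subtype_injective, Q.card_eq_multiplicity],
    R.card_eq_multiplicity, ← C.card_mul_index,
    Nat.factorization_mul Nat.card_pos.ne' C.index_ne_zero_of_finite, Finsupp.add_apply,
    pow_add] at h1
  exact Nat.eq_of_mul_eq_mul_left (pow_pos hp.out.pos _) h1

end CfsgLib.OddCons.ClassLemmas
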