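import Cfsg.Agent.OddCons.Basic
import Cfsg.Agent.LBalance.TwoComponent
import Cfsg.Agent.S1304
import Cfsg.Agent.S1314

/-!
# Components of involution centralizers under `L_{2'}(G) = E(G)`

With the odd order theorem as hypothesis a component of `C(t)` is a 2-component, so by `L`-balance it
lies in `E(G)`; there it is a component of `G`, or is properly inside one normalized by `t`, or is the
diagonal of two components exchanged by `t`.
-/

set_option autoImplicit false
set_option maxHeartbeats 1000000

open Cfsg
open scoped commutatorElement Pointwise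

namespace CfsgLib.OddCons.ComponentTrichotomy

open CfsgLib.Cores

universe u

/-- A component of an involution centralizer lies in the 2-layer. -/
theorem le_pLayer_two (hFT : CfsgLib.OddStep.P0205.{u}) {G : Type u} [Group G] [Finite G] {t : G}
    (ht : orderOf t = 2) {L : Subgroup G} (hLt : L ≤ Subgroup.centralizer ({t} : Set G))
    (hL : IsComponent (L.subgroupOf (Subgroup.centralizer ({t} : Set G)))) : L ≤ pLayer 2 G := by
  haveI : Fact (Nat.Prime 2) := ⟨Nat.prime_two⟩
  set C := Subgroup.centralizer ({t} : Set G)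
  set R := Subgroup.zpowers t
  have hR : IsPGroup 2 R := IsPGroup.of_card (n := 1) (by rw [Nat.card_zpowers, ht, pow_one])
  have hCR : Subgroup.centralizer (R : Set G) = C := by
    refine le_antisymm (Subgroup.centralizer_le fun x hx => by
      rw [Set.mem_singleton_iff] at hx; rw [hx]; exact Subgroup.mem_zpowers t) fun x hx y hy => ?_
    obtain ⟨n, rfl⟩ := hy
    exact ((show Commute x t from Subgroup.mem_centralizer_singleton_iff.mp hx).zpow_right n).eq.symm
  have hdvd : 2 ∣ Nat.card (L.subgroupOf C) := by
    refine (Basic.even_card_of_not_isSolvable hFT fun hs => ?_).two_dvd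
    exact not_isSolvable_of_isQuasisimple hL.2 hs
  refine CfsgLib.LBalance.le_pLayer_two_of_isPComponent_centralizer hR (hCR ▸ hLt) ?_
  have := isPComponent_of_isComponent hL hdvd
  rw [hCR]
  exact this

/-- **The trichotomy.** -/
theorem trichotomy (hFT : CfsgLib.OddStep.P0205.{u}) {G : Type u} [Group G] [Finite G]
    (hL2 : pLayer 2 G = layer G) {t : G} (ht : orderOf t = 2) {L : Subgroup G}
    (hLt : L ≤ Subgroup.centralizer ({t} : Set G))
    (hL : IsComponent (L.subgroupOf (Subgroup.centralizer ({t} : Set G)))) :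
    ∃ D : Subgroup G, IsComponent D ∧
      (L = D ∨ (L < D ∧ D = ⁅D, Subgroup.zpowers t⁆) ∨
        (D.map (MulAut.conj t).toMonoidHom ≠ D ∧
          L = (layer ↥((D ⊔ D.map (MulAut.conj t).toMonoidHom) ⊓ Subgroup.centralizer ({t} : Set G))).map
            ((D ⊔ D.map (MulAut.conj t).toMonoidHom) ⊓ Subgroup.centralizer ({t} : Set G)).subtype)) := by
  set C := Subgroup.centralizer ({t} : Set G) with hC
  have htt : t * t = 1 := by rw [← pow_two, ← ht, pow_orderOf_eq_one]
  have hti : t⁻¹ = t := inv_eq_of_mul_eq_one_right htt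
  obtain ⟨D, hD, hcase⟩ := CfsgLib.LBalance.exists_component_of_le_layer htt
    (hL2 ▸ le_pLayer_two hFT ht hLt hL) hLt hL
  have hLperf : ⁅L, L⁆ = L := by
    have h := congrArg (Subgroup.map C.subtype) (commutator_self_of_isComponent hL)
    rwa [Subgroup.map_commutator, Subgroup.subgroupOf_map_subtype, inf_of_le_left hLt] at h
  have hLne : L ≠ ⊥ := fun h => ne_bot_of_isComponent hL (by rw [h, Subgroup.bot_subgroupOf])
  set D' := D.map (MulAut.conj t).toMonoidHom with hD'
  refine ⟨D, hD, ?_⟩
  rcases hcase with hLD | ⟨hne, hdiag⟩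
  · -- `L` lies in `D`, so `t` normalizes `D`
    have hDt : D' = D := by
      by_contra hne
      refine hLne ?_
      rw [← hLperf, eq_bot_iff]
      refine le_trans (Subgroup.commutator_mono hLD (?_ : L ≤ D'))
        (commutator_eq_bot_of_ne hD (isComponent_conj hD t) (Ne.symm hne)).le
      intro x hx
      exact ⟨x, hLD hx, by
        show t * x * t⁻¹ = x
        rw [← Subgroup.mem_centralizer_singleton_iff.1 (hLt hx), mul_inv_cancel_right]⟩
    by_cases hLD' : L = D
    · exact Or.inl hLD'
    refine Or.inr (Or.inl ⟨lt_of_le_of_ne hLD hLD', ?_⟩)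
    have htD : t ∈ Subgroup.normalizer (D : Set G) := by
      rw [Subgroup.mem_normalizer_iff_map_conj_eq]; exact hDt
    have hle : ⁅D, Subgroup.zpowers t⁆ ≤ D :=
      Subgroup.le_normalizer_iff_commutator_le_left.1 (Subgroup.zpowers_le.2 htD)
    haveI hnorm : (⁅D, Subgroup.zpowers t⁆.subgroupOf D).Normal := by
      refine (Subgroup.normal_subgroupOf_iff_le_normalizer hle).2 ?_
      exact Subgroup.normalizer_commutator_ge_left D (Subgroup.zpowers t)
    rcases eq_or_le_center_of_le_component hD.2 hle hnorm.isSubnormal with h | h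
    · exact h.symm
    exfalso
    haveI : Group.IsPerfect D := hD.2.1
    -- `t` centralizes `D`
    let α : D ≃* D :=
      { toFun := fun x => ⟨t * x * t⁻¹, (Subgroup.mem_normalizer_iff.1 htD x).1 x.2⟩
        invFun := fun x => ⟨t⁻¹ * x * t, (Subgroup.mem_normalizer_iff''.1 htD x).1 x.2⟩
        left_inv := fun x => Subtype.ext (by show t⁻¹ * (t * (x : G) * t⁻¹) * t = x; group)
        right_inv := fun x => Subtype.ext (by show t * (t⁻¹ * (x : G) * t) * t⁻¹ = x; group)
        map_mul' := fun x y => Subtype.ext (by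
          show t * ((x : G) * y) * t⁻¹ = t * x * t⁻¹ * (t * y * t⁻¹); group) }
    have hfix := Cfsg.Agent.S1304.result (X := D) (Group.IsPerfect.commutator_eq_top) α fun x => by
      have h1 : ⁅(x : G), t⁆ ∈ ⁅D, Subgroup.zpowers t⁆ :=
        Subgroup.commutator_mem_commutator x.2 (Subgroup.mem_zpowers t)
      have h2 : (x : G) * (t * (x : G)⁻¹ * t⁻¹) ∈ ⁅D, Subgroup.zpowers t⁆ := by
        simpa [commutatorElement_def, mul_assoc] using h1
      obtain ⟨z, hz, hze⟩ := h h2
      have he : α x * x⁻¹ = (z⁻¹ : D) := Subtype.ext (by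
        show t * (x : G) * t⁻¹ * (x : G)⁻¹ = (z : G)⁻¹
        rw [show (z : G) = (x : G) * (t * (x : G)⁻¹ * t⁻¹) from hze]
        simp [mul_assoc])
      rw [he]
      exact inv_mem hz
    have hDC : D ≤ C := fun x hx => Subgroup.mem_centralizer_singleton_iff.2 (by
      have h1 : t * x * t⁻¹ = x := congrArg Subtype.val (hfix ⟨x, hx⟩)
      exact (mul_inv_eq_iff_eq_mul.1 h1).symm)
    have := eq_of_component_le hL (isComponent_subgroupOf hD hDC)
      (fun x hx => hLD hx)
    refine hLD' ?_
    have h2 := congrArg (Subgroup.map C.subtype) this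
    rwa [Subgroup.subgroupOf_map_subtype, inf_of_le_left hLt, Subgroup.subgroupOf_map_subtype,
      inf_of_le_left hDC] at h2
  · -- `L` is the diagonal
    refine Or.inr (Or.inr ⟨hne, ?_⟩)
    obtain ⟨π, hπ, hker, hrC, hrange⟩ := Cfsg.Agent.S1314.result t ht D
      (by
        haveI := hD.2.1
        rw [← Subgroup.map_subtype_commutator, Group.IsPerfect.commutator_eq_top,
          ← MonoidHom.range_eq_map, Subgroup.range_subtype])
      (commutator_eq_bot_of_ne hD (isComponent_conj hD t) (Ne.symm hne))
    set H := (D ⊔ D') ⊓ C with hH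
    set Φ := π.range with hΦ
    have hLΦ : L ≤ Φ := fun x hx => by
      obtain ⟨d, hd, rfl⟩ := hdiag x hx
      exact ⟨⟨d, hd⟩, hπ _⟩
    have hΦH : Φ ≤ H := by rw [← hrange]; exact Subgroup.commutator_le_self H
    have hLH : L ≤ H := hLΦ.trans hΦH
    haveI : Nontrivial Φ := by
      rw [Subgroup.nontrivial_iff_ne_bot]
      exact fun h => hLne (le_bot_iff.1 (h ▸ hLΦ))
    have hΦq : IsQuasisimple Φ :=
      CfsgLib.Cores.isQuasisimple_of_surjective hD.2 π.rangeRestrict π.rangeRestrict_surjective
    haveI hΦn : (Φ.subgroupOf H).Normal := by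
      refine (Subgroup.normal_subgroupOf_iff_le_normalizer hΦH).2 ?_
      rw [← hrange]
      exact Subgroup.normalizer_commutator_ge_left H H
    have hΦc : IsComponent (Φ.subgroupOf H) :=
      ⟨hΦn.isSubnormal, isQuasisimple_congr (Subgroup.subgroupOfEquivOfLe hΦH).symm hΦq⟩
    have hLc : IsComponent (L.subgroupOf H) :=
      ⟨hL.1.comap (Subgroup.inclusion (inf_le_right : H ≤ C)),
        isQuasisimple_congr (Subgroup.subgroupOfEquivOfLe hLH).symm
          (isQuasisimple_congr (Subgroup.subgroupOfEquivOfLe hLt) hL.2)⟩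
    have hLeq := eq_of_component_le hLc hΦc fun x hx => hLΦ hx
    have hlay : layer H = L.subgroupOf H := by
      refine le_antisymm (sSup_le fun M hM => ?_) (le_sSup hLc)
      refine (eq_of_component_le hM hΦc ?_).le.trans hLeq.ge
      rw [← commutator_self_of_isComponent hM]
      intro x hx
      show (x : G) ∈ Φ
      rw [← hrange]
      have := Subgroup.mem_map_of_mem H.subtype (Subgroup.commutator_mono le_top le_top hx)
      rwa [Subgroup.map_commutator, ← MonoidHom.range_eq_map, Subgroup.range_subtype] at this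
    rw [hlay, Subgroup.subgroupOf_map_subtype, inf_of_le_left hLH]

end CfsgLib.OddCons.ComponentTrichotomy
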