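import Cfsg.Agent.OddStep.Interface
import Cfsg.Agent.Hughes.GT
import Cfsg.Agent.FpfAut.Reduction
import Cfsg.Agent.Transfer.NormalPComplement
import Mathlib.GroupTheory.Nilpotent

/-!
# Coprime action with nilpotent invariant subgroups

With the odd order theorem as hypothesis: a coprime operator group, arbitrary otherwise, fixes a
Sylow subgroup for each prime; if every proper invariant subgroup is nilpotent then the group is
solvable, and, unless nilpotent, a two-prime group with a normal Sylow subgroup.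
-/

set_option autoImplicit false

open Cfsg CfsgLib.FpfAut

namespace CfsgLib.OddCons.InvariantNilpotent

universe u v

variable {A : Type v} [Group A] [Finite A]

/-- The image of the operator group in the automorphism group. -/
theorem coprime_range {G : Type u} [Group G] [Finite G] [MulDistribMulAction A G]
    (hcop : (Nat.card A).Coprime (Nat.card G)) :
    (Nat.card (MulDistribMulAction.toMulAut A G).range).Coprime (Nat.card G) :=
  hcop.coprime_dvd_left (Subgroup.card_range_dvd _)

/-- A coprime operator group and the group acted on cannot both be non-solvable. -/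
theorem solvable_or_solvable (hFT : CfsgLib.OddStep.P0205.{u}) {B G : Type u} [Group B] [Finite B]
    [Group G] [Finite G] (hcop : (Nat.card B).Coprime (Nat.card G)) :
    Group.IsSolvable B ∨ Group.IsSolvable G := by
  rcases Nat.even_or_odd (Nat.card B) with h | h
  · refine Or.inr (hFT ((Nat.even_or_odd (Nat.card G)).resolve_left fun h' => ?_))
    exact Nat.not_coprime_of_dvd_of_dvd one_lt_two h.two_dvd h'.two_dvd hcop
  · exact Or.inl (hFT h)

/-- An invariant Sylow subgroup, with no solvability hypothesis. -/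
theorem exists_invariant_sylow (hFT : CfsgLib.OddStep.P0205.{u}) {G : Type u} [Group G] [Finite G]
    [MulDistribMulAction A G] (hcop : (Nat.card A).Coprime (Nat.card G)) (p : ℕ) [Fact p.Prime] :
    ∃ P : Sylow p G, IsInv A (P : Subgroup G) := by
  set B := (MulDistribMulAction.toMulAut A G).range
  obtain ⟨P, hP⟩ := CfsgLib.Coprime.exists_invariant_sylow_action (p := p) B.subtype
    (coprime_range hcop) (solvable_or_solvable hFT (coprime_range hcop))
  exact ⟨P, fun a x hx => hP ⟨_, a, rfl⟩ x hx⟩

/-- A normal Sylow subgroup is invariant. -/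
theorem isInv_of_normal_sylow {G : Type u} [Group G] [Finite G] [MulDistribMulAction A G]
    {p : ℕ} [Fact p.Prime] (P : Sylow p G) (hP : (P : Subgroup G).Normal) :
    IsInv A (P : Subgroup G) := by
  intro a x hx
  haveI : (P : Subgroup G).Characteristic := Sylow.characteristic_of_normal P hP
  have h := Subgroup.characteristic_iff_map_eq.1 ‹_› (MulDistribMulAction.toMulAut A G a)
  exact h.le ⟨x, hx, rfl⟩

/-- The normalizer of an invariant subgroup is invariant. -/
theorem isInv_normalizer {G : Type u} [Group G] [MulDistribMulAction A G] {W : Subgroup G}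
    (hW : IsInv A W) : IsInv A (Subgroup.normalizer (W : Set G)) := by
  intro a g hg
  rw [Subgroup.mem_normalizer_iff] at hg ⊢
  intro x
  have h := hg (a⁻¹ • x)
  constructor
  · intro hx
    have h1 := hW a _ (h.1 (hW a⁻¹ x hx))
    simpa [smul_mul'] using h1
  · intro hx
    have h1 := hW a⁻¹ _ hx
    simp only [smul_mul', smul_inv', inv_smul_smul] at h1
    simpa using hW a _ (h.2 h1)

/-- A normal `p`-complement is invariant. -/
theorem isInv_pResidual {G : Type u} [Group G] [Finite G] [MulDistribMulAction A G] {p : ℕ}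
    [Fact p.Prime] (h : Cfsg.HasNormalPComplement p G) : IsInv A (Cfsg.pResidual p G) := by
  intro a x hx
  rw [CfsgLib.Transfer.mem_pResidual_iff h] at hx ⊢
  rwa [show orderOf (a • x) = orderOf x from
    (MulDistribMulAction.toMulEquiv G a).orderOf_eq x]

/-- An invariant proper subgroup lies in a maximal one. -/
theorem isNilpotent_of_invariant {G : Type u} [Group G] [Finite G] [MulDistribMulAction A G]
    (hmax : ∀ H : Subgroup G, H ≠ ⊤ → IsInv A H →
      (∀ K : Subgroup G, H < K → IsInv A K → K = ⊤) → Group.IsNilpotent H)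
    {H : Subgroup G} (hH : H ≠ ⊤) (hinv : IsInv A H) : Group.IsNilpotent H := by
  obtain ⟨M, ⟨hHM, hM, hMi⟩, hmx⟩ := Set.Finite.exists_maximal
    (Set.toFinite {M : Subgroup G | H ≤ M ∧ M ≠ ⊤ ∧ IsInv A M}) ⟨H, le_rfl, hH, hinv⟩
  haveI := hmax M hM hMi fun K hK hKi => by
    by_contra hKt
    exact hK.not_ge (hmx ⟨hHM.trans hK.le, hKt, hKi⟩ hK.le)
  exact Group.nilpotent_of_mulEquiv (Subgroup.subgroupOfEquivOfLe hHM)

/-- **All proper invariant subgroups nilpotent implies solvable.** -/
theorem isSolvable (hFT : CfsgLib.OddStep.P0205.{u}) :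
    ∀ (n : ℕ) (G : Type u) [Group G] [Finite G] [MulDistribMulAction A G], Nat.card G = n →
      (Nat.card A).Coprime (Nat.card G) →
      (∀ H : Subgroup G, H ≠ ⊤ → IsInv A H → Group.IsNilpotent H) → Group.IsSolvable G := by
  intro n
  induction n using Nat.strong_induction_on with
  | _ n ih =>
    intro G _ _ _ hn hcop hnil
    by_cases hodd : Odd (Nat.card G)
    · exact hFT hodd
    by_cases h2 : IsPGroup 2 G
    · haveI : Fact (Nat.Prime 2) := ⟨Nat.prime_two⟩
      haveI := h2.isNilpotent
      infer_instance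
    obtain ⟨p, hp, hp2, hpd⟩ : ∃ p, p.Prime ∧ p ≠ 2 ∧ p ∣ Nat.card G := by
      by_contra! h
      refine h2 (IsPGroup.of_card (n := (Nat.card G).primeFactorsList.length)
        (Nat.eq_prime_pow_of_unique_prime_dvd Nat.card_pos.ne' fun {r} hr hrd => ?_))
      by_contra hr2
      exact h r hr hr2 hrd
    haveI := Fact.mk hp
    obtain ⟨P, hP⟩ := exists_invariant_sylow hFT hcop p
    by_cases hW : ∃ W : Subgroup G, W ≠ ⊥ ∧ W ≤ P ∧ IsInv A W ∧ W.Normal
    · obtain ⟨W, hW1, hWP, hWi, hWn⟩ := hW
      letI := quotientAction W hWi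
      have hlt : Nat.card (G ⧸ W) < n := by
        rw [← hn, Subgroup.card_eq_card_quotient_mul_card_subgroup W]
        exact lt_mul_of_one_lt_right Nat.card_pos ((Subgroup.one_lt_card_iff_ne_bot W).2 hW1)
      have hsol : Group.IsSolvable (G ⧸ W) := by
        refine ih _ hlt (G ⧸ W) rfl (hcop.coprime_dvd_right (Subgroup.card_quotient_dvd_card W))
          fun H hH hHi => ?_
        haveI := hnil (H.comap (QuotientGroup.mk' W))
          (fun e => hH (Subgroup.comap_injective (QuotientGroup.mk'_surjective W)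
            (by rw [e, Subgroup.comap_top])))
          (fun a x hx => hHi a (QuotientGroup.mk' W x) hx)
        refine Group.nilpotent_of_surjective ((QuotientGroup.mk' W).subgroupComap H) fun y => ?_
        obtain ⟨x, hx⟩ := QuotientGroup.mk'_surjective W (y : G ⧸ W)
        exact ⟨⟨x, by show QuotientGroup.mk' W x ∈ H; rw [hx]; exact y.2⟩, Subtype.ext hx⟩
      haveI : Group.IsSolvable W := by
        haveI := (P.2.to_le hWP).isNilpotent
        infer_instance
      haveI := hsol
      exact (Group.isSolvable_iff_subgroup_quotient W).mpr ⟨‹_›, ‹_›⟩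
    · push_neg at hW
      have hnpc : Cfsg.HasNormalPComplement p G := by
        refine CfsgLib.Hughes.gtHyp G p hp2 P fun W hW1 hWP hWaut => ?_
        have hWi : IsInv A W := fun a x hx => by
          have hmap : (P : Subgroup G).map (MulDistribMulAction.toMulAut A G a).toMonoidHom = P :=
            Subgroup.eq_of_le_of_card_ge (by rintro _ ⟨y, hy, rfl⟩; exact hP a y hy)
              (by rw [Subgroup.card_map_of_injective (MulEquiv.injective _)])
          exact (hWaut _ hmap).le ⟨x, hx, rfl⟩
        refine CfsgLib.Hughes.hasNormalPComplement_of_isNilpotent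
          (hnil _ (fun e => hW W hW1 hWP hWi (Subgroup.normalizer_eq_top_iff.1 e))
            (isInv_normalizer hWi))
      obtain ⟨N, hN, hNc, k, hk⟩ := CfsgLib.Transfer.hasNormalPComplement_iff_exists.1 hnpc
      haveI := hN
      have hNeq : ∀ g, g ∈ N ↔ (orderOf g).Coprime p :=
        fun g => CfsgLib.Transfer.mem_iff_coprime_of_pPower_index hNc hk g
      have hNtop : N ≠ ⊤ := fun e => by
        rw [e, Subgroup.card_top] at hNc
        exact hp.not_dvd_one (hNc ▸ Nat.dvd_gcd hpd dvd_rfl)
      haveI : Group.IsSolvable N := by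
        haveI := hnil N hNtop fun a x hx => by
          rw [hNeq] at hx ⊢
          rwa [show orderOf (a • x) = orderOf x from
            (MulDistribMulAction.toMulEquiv G a).orderOf_eq x]
        infer_instance
      haveI : Group.IsSolvable (G ⧸ N) := by
        haveI := (IsPGroup.of_card (n := k) hk : IsPGroup p (G ⧸ N)).isNilpotent
        infer_instance
      exact (Group.isSolvable_iff_subgroup_quotient N).mpr ⟨‹_›, ‹_›⟩

/-- Two Sylow subgroups of a nilpotent subgroup commute. -/
theorem commute_of_isNilpotent {G : Type u} [Group G] [Finite G] {r s : ℕ} [Fact r.Prime]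
    [Fact s.Prime] (hrs : r ≠ s) {H R S : Subgroup G} [Group.IsNilpotent H] (hR : R ≤ H) (hS : S ≤ H)
    (hRr : IsPGroup r R) (hSs : IsPGroup s S) {x y : G} (hx : x ∈ R) (hy : y ∈ S) :
    x * y = y * x := by
  obtain ⟨R', hR'⟩ := (hRr.comap_of_injective H.subtype H.subtype_injective).exists_le_sylow
  obtain ⟨S', hS'⟩ := (hSs.comap_of_injective H.subtype H.subtype_injective).exists_le_sylow
  have hn : ∀ {t : ℕ} [Fact t.Prime] (T : Sylow t H), (T : Subgroup H).Normal := fun T =>
    (((Group.isNilpotent_of_finite_tfae (G := H)).out 0 3 :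
      Group.IsNilpotent H ↔ ∀ (t : ℕ) (_ : Fact t.Prime) (T : Sylow t H),
        (T : Subgroup H).Normal)).1 ‹_› _ inferInstance T
  have h := Subgroup.commute_of_normal_of_disjoint _ _ (hn R') (hn S')
    (IsPGroup.disjoint_of_ne r s hrs _ _ R'.2 S'.2)
    (⟨x, hR hx⟩ : H) ⟨y, hS hy⟩ (hR' hx) (hS' hy)
  exact congrArg Subtype.val h.eq

/-- **The structure of a non-nilpotent group all whose invariant proper subgroups are nilpotent.** -/
theorem structure_of_nilpotent_invariant (hFT : CfsgLib.OddStep.P0205.{u}) {G : Type u} [Group G]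
    [Finite G] [MulDistribMulAction A G] (hcop : (Nat.card A).Coprime (Nat.card G))
    (hmax : ∀ H : Subgroup G, H ≠ ⊤ → IsInv A H →
      (∀ K : Subgroup G, H < K → IsInv A K → K = ⊤) → Group.IsNilpotent H)
    (hG : ¬ Group.IsNilpotent G) :
    Group.IsSolvable G ∧
      (∃ p q a b : ℕ, p.Prime ∧ q.Prime ∧ p ≠ q ∧ Nat.card G = p ^ a * q ^ b) ∧
      ∃ (p : ℕ) (P : Sylow p G), p.Prime ∧ p ∣ Nat.card G ∧ (P : Subgroup G).Normal ∧
        (∀ a : A, ∀ x ∈ (P : Subgroup G), a • x ∈ (P : Subgroup G)) := by
  classical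
  have hnil : ∀ H : Subgroup G, H ≠ ⊤ → IsInv A H → Group.IsNilpotent H :=
    fun H hH hHi => isNilpotent_of_invariant hmax hH hHi
  have hsol := isSolvable hFT _ G rfl hcop hnil
  refine ⟨hsol, ?_⟩
  haveI : Nontrivial G := by
    by_contra h
    rw [not_nontrivial_iff_subsingleton] at h
    exact hG inferInstance
  haveI := hsol
  obtain ⟨M, ⟨hGM, hM, hMi⟩, hmx⟩ := Set.Finite.exists_maximal
    (Set.toFinite {M : Subgroup G | commutator G ≤ M ∧ M ≠ ⊤ ∧ IsInv A M})
    ⟨commutator G, le_rfl, (Group.IsSolvable.commutator_lt_top_of_nontrivial G).ne,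
      by rw [commutator_def]; exact isInv_top.commutator isInv_top⟩
  have hMn : M.Normal := ⟨fun x hx g => by
    have h1 : g * x * g⁻¹ * x⁻¹ ∈ M := hGM (by
      rw [commutator_def]
      exact Subgroup.commutator_mem_commutator (Subgroup.mem_top g) (Subgroup.mem_top x))
    simpa using mul_mem h1 hx⟩
  haveI := hMn
  haveI hMnil := hnil M hM hMi
  obtain ⟨r, hr, hrd⟩ := Nat.exists_prime_and_dvd (n := M.index)
    fun e => hM (Subgroup.index_eq_one.1 e)
  haveI := Fact.mk hr
  have hcomm : ∀ a b : G ⧸ M, a * b = b * a := by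
    intro a b
    obtain ⟨a, rfl⟩ := QuotientGroup.mk_surjective a
    obtain ⟨b, rfl⟩ := QuotientGroup.mk_surjective b
    refine (QuotientGroup.eq).2 (hGM ?_)
    rw [commutator_def, show (a * b)⁻¹ * (b * a) = b⁻¹ * a⁻¹ * b⁻¹⁻¹ * a⁻¹⁻¹ by group]
    exact Subgroup.commutator_mem_commutator (Subgroup.mem_top b⁻¹) (Subgroup.mem_top a⁻¹)
  -- the quotient by `M` is an `r`-group
  let L : Subgroup G :=
    { carrier := {g | ∃ k : ℕ, (g : G ⧸ M) ^ r ^ k = 1}
      one_mem' := ⟨0, by simp⟩
      mul_mem' := fun {x y} ⟨i, hi⟩ ⟨j, hj⟩ => ⟨i + j, by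
        rw [QuotientGroup.mk_mul, Commute.mul_pow (hcomm _ _), pow_add, pow_mul, hi, one_pow, one_mul,
          mul_comm, pow_mul, hj, one_pow]⟩
      inv_mem' := fun {x} ⟨i, hi⟩ => ⟨i, by rw [QuotientGroup.mk_inv, inv_pow, hi, inv_one]⟩ }
  have hML : M < L := by
    refine lt_of_le_of_ne (fun x hx => ⟨0, by rw [(QuotientGroup.eq_one_iff x).2 hx, one_pow]⟩)
      fun e => ?_
    obtain ⟨z, hz⟩ := exists_prime_orderOf_dvd_card' (G := G ⧸ M) r hrd
    obtain ⟨g, rfl⟩ := QuotientGroup.mk_surjective z
    have hgL : g ∈ L := ⟨1, by rw [pow_one, ← hz, pow_orderOf_eq_one]⟩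
    rw [← e, ← QuotientGroup.eq_one_iff] at hgL
    rw [hgL, orderOf_one] at hz
    exact hr.one_lt.ne hz
  have hLi : IsInv A L := fun a g ⟨k, hk⟩ => ⟨k, by
    rw [← QuotientGroup.mk_pow, QuotientGroup.eq_one_iff] at hk ⊢
    rw [← smul_pow']
    exact hMi a _ hk⟩
  have hLtop : L = ⊤ := by
    by_contra h
    exact hML.not_ge (hmx ⟨hGM.trans hML.le, h, hLi⟩ hML.le)
  have hquot : IsPGroup r (G ⧸ M) := by
    intro z
    obtain ⟨g, rfl⟩ := QuotientGroup.mk_surjective z
    exact (hLtop ▸ Subgroup.mem_top g : g ∈ L)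
  obtain ⟨i, hi⟩ := IsPGroup.iff_card.1 hquot
  -- Sylow subgroups for the other primes are normal
  have hnorm : ∀ s : ℕ, s.Prime → s ≠ r → ∀ S : Sylow s G, (S : Subgroup G).Normal := by
    intro s hs hsr S
    haveI := Fact.mk hs
    obtain ⟨S₀⟩ : Nonempty (Sylow s M) := inferInstance
    haveI hS₀ : (S₀ : Subgroup M).Normal :=
      (((Group.isNilpotent_of_finite_tfae (G := M)).out 0 3 :
        Group.IsNilpotent M ↔ ∀ (t : ℕ) (_ : Fact t.Prime) (T : Sylow t M),
          (T : Subgroup M).Normal)).1 hMnil s inferInstance S₀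
    haveI : (S₀ : Subgroup M).Characteristic := Sylow.characteristic_of_normal S₀ hS₀
    let S₁ : Sylow s G := (S₀.2.map M.subtype).toSylow (by
      intro hd
      rw [Subgroup.index_map_subtype] at hd
      rcases hs.dvd_mul.1 hd with h | h
      · exact S₀.not_dvd_index h
      · rw [show M.index = r ^ i from hi] at h
        exact hsr ((Nat.prime_dvd_prime_iff_eq hs hr).1 (hs.dvd_of_dvd_pow h)))
    have hS₁ : (S₁ : Subgroup G).Normal :=
      show ((S₀ : Subgroup M).map M.subtype).Normal from inferInstance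
    haveI := Sylow.unique_of_normal S₁ hS₁
    rwa [Subsingleton.elim S S₁]
  obtain ⟨R, hR⟩ := exists_invariant_sylow hFT hcop r
  by_cases hall : ∀ s : ℕ, s.Prime → s ≠ r → ∀ S : Sylow s G, (R : Subgroup G) ⊔ S ≠ ⊤
  · refine absurd ?_ hG
    have hRn : (R : Subgroup G).Normal := by
      rw [← Subgroup.normalizer_eq_top_iff, ← Subgroup.index_eq_one]
      by_contra hne
      obtain ⟨s, hs, hsd⟩ := Nat.exists_prime_and_dvd hne
      haveI := Fact.mk hs
      by_cases hsr : s = r
      · subst hsr
        exact R.not_dvd_index (hsd.trans (Subgroup.index_dvd_of_le Subgroup.le_normalizer))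
      obtain ⟨S⟩ : Nonempty (Sylow s G) := inferInstance
      refine S.not_dvd_index (hsd.trans (Subgroup.index_dvd_of_le ?_))
      haveI hSn := hnorm s hs hsr S
      have hinv : IsInv A ((R : Subgroup G) ⊔ S) := fun a x hx => by
        have hle : (R : Subgroup G) ⊔ S ≤
            ((R : Subgroup G) ⊔ S).comap (MulDistribMulAction.toMonoidHom G a) :=
          sup_le (fun y hy => Subgroup.mem_sup_left (hR a y hy))
            (fun y hy => Subgroup.mem_sup_right (isInv_of_normal_sylow S hSn a y hy))
        exact hle hx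
      haveI := hnil _ (hall s hs hsr S) hinv
      intro y hy
      refine Subgroup.mem_normalizer_iff.2 fun x => ?_
      have hc : ∀ x ∈ (R : Subgroup G), x * y = y * x := fun x hx =>
        commute_of_isNilpotent (Ne.symm hsr) le_sup_left le_sup_right R.2 S.2 hx hy
      constructor
      · intro hx
        rwa [← hc x hx, mul_inv_cancel_right]
      · intro hx
        have h1 := hc _ hx
        have h2 : y * x * y⁻¹ = x := by
          apply mul_left_cancel (a := y)
          rw [← h1]
          group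
        rwa [← h2]
    refine (((Group.isNilpotent_of_finite_tfae (G := G)).out 0 3 :
      Group.IsNilpotent G ↔ ∀ (t : ℕ) (_ : Fact t.Prime) (T : Sylow t G),
        (T : Subgroup G).Normal)).2 fun t ht T => ?_
    by_cases htr : t = r
    · subst htr
      haveI := Sylow.unique_of_normal R hRn
      rwa [Subsingleton.elim T R]
    · exact hnorm t ht.out htr T
  · push_neg at hall
    obtain ⟨s, hs, hsr, S, hS⟩ := hall
    haveI := Fact.mk hs
    haveI hSn := hnorm s hs hsr S
    have hcard : Nat.card G ∣ Nat.card (R : Subgroup G) * Nat.card (S : Subgroup G) := by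
      rw [← Subgroup.card_top (G := G), ← hS, ← Subgroup.relIndex_bot_left,
        ← Subgroup.relIndex_mul_relIndex ⊥ (S : Subgroup G) _ bot_le le_sup_right,
        Subgroup.relIndex_bot_left, Subgroup.relIndex_sup_right, mul_comm]
      exact Nat.mul_dvd_mul_right (Subgroup.relIndex_dvd_card _ _) _
    obtain ⟨y, z, hy, hz, he⟩ := Nat.dvd_mul.1 hcard
    obtain ⟨a, ha⟩ := IsPGroup.iff_card.1 R.2
    obtain ⟨b, hb⟩ := IsPGroup.iff_card.1 S.2
    rw [ha] at hy
    rw [hb] at hz
    obtain ⟨a', -, ha'⟩ := (Nat.dvd_prime_pow hr).1 hy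
    obtain ⟨b', -, hb'⟩ := (Nat.dvd_prime_pow hs).1 hz
    refine ⟨⟨r, s, a', b', hr, hs, Ne.symm hsr, by rw [← he, ha', hb']⟩, s, S, hs, ?_, hSn,
      isInv_of_normal_sylow S hSn⟩
    by_contra hsd
    refine hG ?_
    have hb0 : b' = 0 := by
      by_contra h
      exact hsd (he ▸ hb' ▸ Dvd.dvd.mul_left (dvd_pow_self s h) y)
    haveI := (IsPGroup.of_card (n := a') (by rw [← he, ha', hb', hb0, pow_zero, mul_one]) :
      IsPGroup r G).isNilpotent
    infer_instance

end CfsgLib.OddCons.InvariantNilpotent
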