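import Cfsg.Agent.OddCons.Basic
import Cfsg.Agent.S1921
import Cfsg.Prelude.Def_Local

/-!
# Conjugate cyclic `p`-subgroups and the layer

Given the odd order theorem, if cyclic `p`-subgroups of equal order are always conjugate then a
non-trivial layer is quasisimple.
-/

set_option autoImplicit false

open Cfsg

namespace CfsgLib.OddCons.LayerSimple

universe u

variable {G : Type u} [Group G]

/-- Cyclic `p`-subgroups of the same order are conjugate. -/
def CyclicConj (G : Type u) [Group G] : Prop :=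
  ∀ (p : ℕ), p.Prime → ∀ A B : Subgroup G, IsCyclic ↥A → IsCyclic ↥B → IsPGroup p ↥A →
    Nat.card ↥A = Nat.card ↥B → ∃ g : G, B = A.map (MulAut.conj g).toMonoidHom

theorem exists_conj (hP : CyclicConj G) {p : ℕ} (hp : p.Prime) {j : ℕ} {a b : G}
    (ha : orderOf a = p ^ j) (hb : orderOf b = p ^ j) :
    ∃ g : G, b ∈ (Subgroup.zpowers a).map (MulAut.conj g).toMonoidHom := by
  have hA : IsPGroup p (Subgroup.zpowers a) := IsPGroup.of_card (n := j) (by rw [Nat.card_zpowers, ha])
  obtain ⟨g, hg⟩ := hP p hp (Subgroup.zpowers a) (Subgroup.zpowers b) inferInstance inferInstance hA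
    (by rw [Nat.card_zpowers, Nat.card_zpowers, ha, hb])
  exact ⟨g, hg ▸ Subgroup.mem_zpowers b⟩

variable [Finite G]

theorem commute_of_ne {K L : Subgroup G} (hK : IsComponent K) (hL : IsComponent L) (hne : K ≠ L)
    {a b : G} (ha : a ∈ K) (hb : b ∈ L) : Commute a b := by
  have h := Cfsg.Agent.S1921.components_commute_aux _ G le_rfl K L hK hL hne
  rw [Subgroup.commutator_eq_bot_iff_le_centralizer] at h
  exact (Subgroup.mem_centralizer_iff.1 (h ha) b hb).symm

theorem not_isPGroup_quotient {K : Subgroup G} (hK : IsComponent K) (p : ℕ) [Fact p.Prime] :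
    ¬ IsPGroup p (↥K ⧸ Subgroup.center ↥K) := by
  intro hp
  haveI := hp.isNilpotent
  haveI : Group.IsPerfect ↥K := hK.2.1
  haveI := hK.2.2
  have hc : Subgroup.center ↥K = ⊤ := by
    have h1 : (commutator ↥K) ≤ Subgroup.center ↥K := by
      rw [commutator_def, Subgroup.commutator_le]
      intro x _ y _
      rw [← QuotientGroup.eq_one_iff, ← QuotientGroup.mk'_apply, map_commutatorElement,
        commutatorElement_eq_one_iff_mul_comm]
      exact (IsSimpleGroup.comm_iff_isSolvable.2 inferInstance) _ _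
    rwa [Group.IsPerfect.commutator_eq_top, top_le_iff] at h1
  exact not_subsingleton (↥K ⧸ Subgroup.center ↥K)
    (QuotientGroup.subsingleton_iff.2 hc)

theorem not_comm_quotient {K : Subgroup G} (hK : IsComponent K) :
    ¬ IsMulCommutative (↥K ⧸ Subgroup.center ↥K) := by
  intro hc
  haveI := hK.2.2
  haveI : Group.IsPerfect ↥K := hK.2.1
  have h1 : (commutator ↥K) ≤ Subgroup.center ↥K := by
    rw [commutator_def, Subgroup.commutator_le]
    intro x _ y _
    rw [← QuotientGroup.eq_one_iff, ← QuotientGroup.mk'_apply, map_commutatorElement,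
      commutatorElement_eq_one_iff_mul_comm]
    exact hc.is_comm.comm _ _
  rw [Group.IsPerfect.commutator_eq_top, top_le_iff] at h1
  exact not_subsingleton (↥K ⧸ Subgroup.center ↥K) (QuotientGroup.subsingleton_iff.2 h1)

theorem exists_noncentral {K : Subgroup G} {p : ℕ} [hp : Fact p.Prime]
    (hd : p ∣ (Subgroup.center ↥K).index) :
    ∃ a ∈ K, (∃ j, orderOf a = p ^ j) ∧ ∃ k ∈ K, a * k ≠ k * a := by
  set P : Sylow p ↥K := default
  have hnle : ¬ (P : Subgroup ↥K) ≤ Subgroup.center ↥K := fun hle =>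
    P.not_dvd_index (hd.trans (Subgroup.index_dvd_of_le hle))
  obtain ⟨x, hx, hxZ⟩ := SetLike.not_le_iff_exists.1 hnle
  rw [Subgroup.mem_center_iff] at hxZ
  push Not at hxZ
  obtain ⟨k, hk⟩ := hxZ
  obtain ⟨j, hj⟩ := IsPGroup.iff_orderOf.1 P.isPGroup' ⟨x, hx⟩
  rw [Subgroup.orderOf_mk] at hj
  exact ⟨x, x.2, ⟨j, by rw [Subgroup.orderOf_coe, hj]⟩, k, k.2, fun e => hk (Subtype.ext e.symm)⟩

/-- A product of non-central elements of two components is never conjugate to one of them. -/
theorem no_mixed (hP : CyclicConj G) {K L : Subgroup G} (hK : IsComponent K) (hL : IsComponent L)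
    (hne : K ≠ L) {a b : G} (ha : a ∈ K) (hb : b ∈ L) {k l : G} (hk : k ∈ K) (hl : l ∈ L)
    (hak : a * k ≠ k * a) (hbl : b * l ≠ l * b) {p j : ℕ} (hp : p.Prime) (hoa : orderOf a = p ^ j)
    (ho : orderOf (a * b) = p ^ j) : False := by
  obtain ⟨g, hg⟩ := exists_conj hP hp hoa ho
  set K' := K.map (MulAut.conj g).toMonoidHom
  have hK' : IsComponent K' := Cfsg.Agent.S1921.isComponent_conj hK g
  have hab : a * b ∈ K' := Subgroup.map_mono (Subgroup.zpowers_le.2 ha) hg
  by_cases h : K' = K
  · -- then `a * b` commutes with `L`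
    have h1 : Commute (a * b) l := commute_of_ne hK hL hne (h ▸ hab) hl
    have h2 : Commute a l := commute_of_ne hK hL hne ha hl
    apply hbl
    have e := h1
    have : Commute b l := by
      have := (h2.inv_left).mul_left e
      rwa [inv_mul_cancel_left] at this
    exact this.eq
  · have h1 : Commute (a * b) k := commute_of_ne hK' hK h hab hk
    have h2 : Commute b k := commute_of_ne hL hK (Ne.symm hne) hb hk
    apply hak
    have : Commute a k := by
      have := h1.mul_left h2.inv_left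
      rwa [mul_inv_cancel_right] at this
    exact this.eq

omit [Finite G] in
theorem orderOf_mul_of_lt {p : ℕ} (hp : p.Prime) {a b : G} (hab : Commute a b) {i j : ℕ}
    (ha : orderOf a = p ^ i) (hb : orderOf b = p ^ j) (hij : i < j) : orderOf (a * b) = p ^ j := by
  haveI : Fact p.Prime := ⟨hp⟩
  obtain ⟨j, rfl⟩ : ∃ m, j = m + 1 := ⟨j - 1, by omega⟩
  refine orderOf_eq_prime_pow ?_ ?_
  · rw [hab.mul_pow, orderOf_dvd_iff_pow_eq_one.1 (ha.dvd.trans (pow_dvd_pow p (by omega))), one_mul]
    intro h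
    have h1 := orderOf_dvd_of_pow_eq_one h
    rw [hb, Nat.pow_dvd_pow_iff_le_right hp.one_lt] at h1
    omega
  · rw [hab.mul_pow, orderOf_dvd_iff_pow_eq_one.1 (ha.dvd.trans (pow_dvd_pow p (by omega))), one_mul,
      ← hb, pow_orderOf_eq_one]

theorem unique_component (hFT : CfsgLib.OddStep.P0205.{u}) (hP : CyclicConj G) {K L : Subgroup G}
    (hK : IsComponent K) (hL : IsComponent L) : K = L := by
  by_contra hne
  have heven : ∀ M : Subgroup G, IsComponent M → 2 ∣ (Subgroup.center ↥M).index := fun M hM => by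
    haveI := hM.2.2
    rw [Subgroup.index_eq_card]
    exact (Basic.even_card_of_simple hFT (not_comm_quotient hM)).two_dvd
  haveI : Fact (Nat.Prime 2) := ⟨Nat.prime_two⟩
  obtain ⟨a, ha, ⟨i, hai⟩, k, hk, hak⟩ := exists_noncentral (heven K hK)
  obtain ⟨b, hb, ⟨j, hbj⟩, l, hl, hbl⟩ := exists_noncentral (heven L hL)
  have hab : Commute a b := commute_of_ne hK hL hne ha hb
  rcases lt_trichotomy i j with hij | rfl | hij
  · refine no_mixed hP hL hK (Ne.symm hne) hb ha hl hk hbl hak Nat.prime_two hbj ?_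
    rw [← hab.eq]
    exact orderOf_mul_of_lt Nat.prime_two hab hai hbj hij
  · -- `L` is a conjugate of `K`
    obtain ⟨g, hg⟩ := exists_conj hP Nat.prime_two hai hbj
    have hLK : L = K.map (MulAut.conj g).toMonoidHom := by
      by_contra hne'
      have hK' := Cfsg.Agent.S1921.isComponent_conj hK g
      exact hbl (commute_of_ne hK' hL (Ne.symm hne')
        (Subgroup.map_mono (Subgroup.zpowers_le.2 ha) hg) hl).eq
    obtain ⟨q, hq, hq2, hqd⟩ : ∃ q : ℕ, q.Prime ∧ q ≠ 2 ∧ q ∣ (Subgroup.center ↥K).index := by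
      by_contra hno
      push Not at hno
      refine not_isPGroup_quotient hK 2 (IsPGroup.of_card
        (n := Nat.primeFactorsList (Nat.card (↥K ⧸ Subgroup.center ↥K)) |>.length) ?_)
      refine Nat.eq_prime_pow_of_unique_prime_dvd Nat.card_pos.ne' fun {d} hd hdd => ?_
      by_contra hd2
      exact hno d hd hd2 (by rwa [Subgroup.index_eq_card])
    haveI : Fact q.Prime := ⟨hq⟩
    obtain ⟨a, ha, ⟨m, ham⟩, k, hk, hak⟩ := exists_noncentral hqd
    set b := g * a * g⁻¹
    set l := g * k * g⁻¹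
    have hb : b ∈ L := hLK ▸ ⟨a, ha, rfl⟩
    have hl : l ∈ L := hLK ▸ ⟨k, hk, rfl⟩
    have hbm : orderOf b = q ^ m := by
      rw [← ham]
      exact MulEquiv.orderOf_eq (MulAut.conj g) a
    have hbl : b * l ≠ l * b := fun e => hak ((MulAut.conj g).injective (by
      rw [map_mul, map_mul]; exact e))
    have hab : Commute a b := commute_of_ne hK hL hne ha hb
    obtain ⟨m, rfl⟩ : ∃ n, m = n + 1 := ⟨m - 1, by
      rcases Nat.eq_zero_or_pos m with rfl | h
      · rw [pow_zero, orderOf_eq_one_iff] at ham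
        exact absurd (by rw [ham, one_mul, mul_one]) hak
      · omega⟩
    have hb1 : b ^ q ^ m ≠ 1 := fun h => by
      have h1 := orderOf_dvd_of_pow_eq_one h
      rw [hbm, Nat.pow_dvd_pow_iff_le_right hq.one_lt] at h1
      omega
    obtain ⟨c, hc1, hc2, hc⟩ : ∃ c : ℕ, 0 < c ∧ c ≤ 2 ∧ (a * b ^ c) ^ q ^ m ≠ 1 := by
      by_contra hno
      push Not at hno
      have h1 := hno 1 one_pos one_le_two
      have h2 := hno 2 two_pos le_rfl
      rw [(hab.pow_right 1).mul_pow, pow_one] at h1
      rw [(hab.pow_right 2).mul_pow, ← pow_mul, mul_comm 2, pow_mul, pow_two, ← mul_assoc, h1,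
        one_mul] at h2
      exact hb1 h2
    have hqc : (orderOf b).Coprime c := by
      rw [hbm]
      refine (hq.coprime_iff_not_dvd.2 fun hd => ?_).pow_left _
      have h2 := Nat.le_of_dvd hc1 hd
      exact hq2 (le_antisymm (h2.trans hc2) hq.two_le)
    obtain ⟨d, hd⟩ := exists_pow_eq_self_of_coprime (x := b) hqc.symm
    have hbl' : b ^ c * l ≠ l * b ^ c := fun e => hbl (by
      have := (show Commute (b ^ c) l from e).pow_left d
      rw [hd] at this
      exact this.eq)
    refine no_mixed hP hK hL hne ha (pow_mem hb c) hk hl hak hbl' hq ham ?_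
    refine orderOf_eq_prime_pow hc ?_
    rw [(hab.pow_right c).mul_pow, ← pow_mul, mul_comm c, pow_mul, ← ham, pow_orderOf_eq_one,
      one_mul, ham, ← hbm, pow_orderOf_eq_one, one_pow]
  · refine no_mixed hP hK hL hne ha hb hk hl hak hbl Nat.prime_two hai ?_
    rw [hab.eq]
    exact orderOf_mul_of_lt Nat.prime_two hab.symm hbj hai hij

/-- S3915, from the odd order theorem. -/
theorem layer_simple (hFT : CfsgLib.OddStep.P0205.{u}) (hP : CyclicConj G)
    (hE : Cfsg.layer G ≠ ⊥) :
    IsSimpleGroup (↥(Cfsg.layer G) ⧸ Subgroup.center ↥(Cfsg.layer G)) ∧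
      ¬ IsMulCommutative (↥(Cfsg.layer G) ⧸ Subgroup.center ↥(Cfsg.layer G)) := by
  obtain ⟨K, hK⟩ : ∃ K : Subgroup G, IsComponent K := by
    by_contra hno
    push Not at hno
    exact hE (eq_bot_iff.2 (sSup_le fun K hK => absurd hK (hno K)))
  have he : Cfsg.layer G = K :=
    le_antisymm (sSup_le fun L hL => (unique_component hFT hP hL hK).le) (le_sSup hK)
  rw [he]
  exact ⟨hK.2.2, not_comm_quotient hK⟩

end CfsgLib.OddCons.LayerSimple
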