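import Cfsg.Agent.OddCons.Basic
import Cfsg.Agent.Transfer.NormalPComplement
import Cfsg.Agent.Transfer.Frobenius
import Cfsg.Agent.Fus.Group
import Cfsg.Agent.S5212
import Cfsg.Agent.S0949
import Mathlib

/-!
# Metacyclic Sylow `2`-subgroups with a large cyclic quotient

Given the odd order theorem such a group is solvable.
-/

set_option autoImplicit false

open Cfsg

namespace CfsgLib.OddCons.MetacyclicSylow

universe u

section abstract

variable {S : Type*} [Group S]

theorem card_le_two_of_gens {C : Type*} [Group C] [Finite C] [IsCyclic C] {a b : C}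
    (hgen : Subgroup.closure ({a, b} : Set C) = ⊤) (ha : a ^ 2 = 1) (hb : b ^ 2 = 1) :
    Nat.card C ≤ 2 := by
  letI := IsCyclic.commGroup (α := C)
  rw [← IsCyclic.exponent_eq_card]
  refine Nat.le_of_dvd two_pos (Monoid.exponent_dvd_of_forall_pow_eq_one fun c => ?_)
  have hle : Subgroup.closure ({a, b} : Set C) ≤ (powMonoidHom 2 : C →* C).ker :=
    (Subgroup.closure_le _).2 (by rintro x (rfl | rfl) <;> assumption)
  exact hle (hgen ▸ Subgroup.mem_top c)

theorem card_quot_le_two {x y : S} (hgen : Subgroup.closure ({x, y} : Set S) = ⊤)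
    {C : Type*} [Group C] [Finite C] [IsCyclic C] (f : S →* C) (hf : Function.Surjective f)
    (hx : f x ^ 2 = 1) (hy : f y ^ 2 = 1) : Nat.card C ≤ 2 := by
  refine card_le_two_of_gens (a := f x) (b := f y) ?_ hx hy
  rw [← Set.image_pair, ← MonoidHom.map_closure, hgen, Subgroup.map_top_of_surjective f hf]

variable {C : Type*} [Group C] [Finite C] [IsCyclic C]

theorem dihedral_quot {m : ℕ} (f : DihedralGroup m →* C) (hf : Function.Surjective f) :
    Nat.card C ≤ 2 := by
  letI := IsCyclic.commGroup (α := C)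
  refine card_quot_le_two (x := DihedralGroup.r 1) (y := DihedralGroup.sr 0) ?_ f hf ?_ ?_
  · rw [eq_top_iff]
    intro g _
    have hr : ∀ i : ZMod m, DihedralGroup.r i ∈
        Subgroup.closure ({DihedralGroup.r 1, DihedralGroup.sr 0} : Set (DihedralGroup m)) := by
      intro i
      rw [← ZMod.intCast_zmod_cast i, ← DihedralGroup.r_one_zpow]
      exact zpow_mem (Subgroup.subset_closure (by simp)) _
    cases g with
    | r i => exact hr i
    | sr i =>
      have : DihedralGroup.sr i = DihedralGroup.sr 0 * DihedralGroup.r i := by simp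
      rw [this]
      exact mul_mem (Subgroup.subset_closure (by simp)) (hr i)
  · have h1 : DihedralGroup.sr (0 : ZMod m) * DihedralGroup.r 1 * DihedralGroup.sr 0 =
        (DihedralGroup.r 1)⁻¹ := by simp
    have h2 : DihedralGroup.sr (0 : ZMod m) * DihedralGroup.sr 0 = 1 := by simp
    have e := congrArg f h1
    rw [map_mul, map_mul, mul_comm (f _) (f (DihedralGroup.r 1)), mul_assoc, ← map_mul, h2,
      map_one, mul_one, map_inv] at e
    rw [pow_two]
    nth_rewrite 2 [e]
    exact mul_inv_cancel _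
  · rw [← map_pow, pow_two]; simp

theorem quaternion_quot {m : ℕ} (hm : 2 ∣ m) (f : QuaternionGroup m →* C)
    (hf : Function.Surjective f) : Nat.card C ≤ 2 := by
  letI := IsCyclic.commGroup (α := C)
  have h1 : QuaternionGroup.xa (0 : ZMod (2 * m)) * QuaternionGroup.a 1 =
      (QuaternionGroup.a 1)⁻¹ * QuaternionGroup.xa 0 := by
    rw [eq_inv_mul_iff_mul_eq]
    simp
  have hx : f (QuaternionGroup.a 1) ^ 2 = 1 := by
    have e := congrArg f h1
    rw [map_mul, map_mul, mul_comm, map_inv] at e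
    have e' := mul_right_cancel e
    rw [pow_two]
    nth_rewrite 2 [e']
    exact mul_inv_cancel _
  refine card_quot_le_two (x := QuaternionGroup.a 1) (y := QuaternionGroup.xa 0) ?_ f hf hx ?_
  · rw [eq_top_iff]
    intro g _
    have hr : ∀ i : ZMod (2 * m), QuaternionGroup.a i ∈ Subgroup.closure
        ({QuaternionGroup.a 1, QuaternionGroup.xa 0} : Set (QuaternionGroup m)) := by
      intro i
      have key : ∀ k : ℤ, QuaternionGroup.a (k : ZMod (2 * m)) =
          (QuaternionGroup.a 1 : QuaternionGroup m) ^ k := by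
        intro k
        induction k using Int.induction_on with
        | zero => simp [← QuaternionGroup.one_def]
        | succ k ih => rw [zpow_add_one, ← ih]; simp
        | pred k ih =>
          rw [zpow_sub_one, ← ih, eq_mul_inv_iff_mul_eq]
          simp
      rw [← ZMod.intCast_zmod_cast i, key]
      exact zpow_mem (Subgroup.subset_closure (by simp)) _
    cases g with
    | a i => exact hr i
    | xa i =>
      have : QuaternionGroup.xa i = QuaternionGroup.xa 0 * QuaternionGroup.a i := by simp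
      rw [this]
      exact mul_mem (Subgroup.subset_closure (by simp)) (hr i)
  · obtain ⟨k, hk⟩ := hm
    have h2 : (QuaternionGroup.xa (0 : ZMod (2 * m))) ^ 2 = QuaternionGroup.a 1 ^ m := by
      rw [QuaternionGroup.xa_sq, QuaternionGroup.a_one_pow]
    rw [← map_pow, h2, map_pow]
    calc f (QuaternionGroup.a 1) ^ m = f (QuaternionGroup.a 1) ^ (2 * k) := congrArg _ hk
      _ = 1 := by rw [pow_mul, hx, one_pow]

theorem quasiDihedral_quot {S : Type*} [Group S] [Finite S] (hS : IsQuasiDihedral S)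
    (f : S →* C) (hf : Function.Surjective f) : Nat.card C ≤ 2 := by
  letI := IsCyclic.commGroup (α := C)
  obtain ⟨n, hn, hcard, x, y, hx, hy, hxy⟩ := hS
  refine card_quot_le_two (x := x) (y := y) ?_ f hf ?_ ?_
  · set H := Subgroup.closure ({x, y} : Set S)
    have hX : Subgroup.zpowers x ≤ H := Subgroup.zpowers_le.2 (Subgroup.subset_closure (by simp))
    have hyX : y ∉ Subgroup.zpowers x := by
      intro h
      obtain ⟨k, rfl⟩ := Subgroup.mem_zpowers_iff.1 h
      have h2 : x ^ (2 ^ (n - 1) - 1) = x ^ 1 := by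
        rw [← hxy, pow_one]
        exact ((Commute.refl x).zpow_left k).mul_inv_cancel
      rw [pow_eq_pow_iff_modEq, hx, Nat.ModEq] at h2
      have h4 : 4 ≤ 2 ^ (n - 1) := by
        calc 4 = 2 ^ 2 := by norm_num
          _ ≤ _ := Nat.pow_le_pow_right two_pos (by omega)
      have h8 : 2 ^ n = 2 * 2 ^ (n - 1) := by rw [← pow_succ']; congr 1; omega
      rw [Nat.mod_eq_of_lt (by omega), Nat.mod_eq_of_lt (by omega)] at h2
      omega
    refine Subgroup.eq_top_of_card_eq _ (le_antisymm (Subgroup.card_le_card_group H) ?_)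
    have hlt : Subgroup.zpowers x < H := lt_of_le_of_ne hX fun e =>
      hyX (by rw [e]; exact Subgroup.subset_closure (by simp))
    have h1 := Subgroup.card_dvd_of_le hX
    rw [Nat.card_zpowers, hx] at h1
    obtain ⟨c, hc⟩ := h1
    have hc1 : c ≠ 1 := by
      rintro rfl
      refine hlt.ne (Subgroup.eq_of_le_of_card_ge hX ?_)
      rw [Nat.card_zpowers, hx, hc, mul_one]
    have hc0 : c ≠ 0 := by
      rintro rfl
      rw [mul_zero] at hc
      exact Nat.card_pos.ne' hc
    rw [hcard, hc, pow_succ]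
    exact Nat.mul_le_mul_left _ (by omega)
  · have e := congrArg f hxy
    rw [map_mul, map_mul, map_inv, mul_comm (f y), mul_inv_cancel_right, map_pow] at e
    have h2 : f x ^ (2 ^ n) = 1 := by rw [← map_pow, ← hx, pow_orderOf_eq_one, map_one]
    have h4 : 4 ≤ 2 ^ (n - 1) := by
      calc 4 = 2 ^ 2 := by norm_num
        _ ≤ _ := Nat.pow_le_pow_right two_pos (by omega)
    have h3 : f x ^ (2 ^ (n - 1) - 2) = 1 := by
      have : f x ^ (2 ^ (n - 1) - 2) * f x = 1 * f x := by
        rw [one_mul, ← pow_succ, show 2 ^ (n - 1) - 2 + 1 = 2 ^ (n - 1) - 1 by omega]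
        exact e.symm
      exact mul_right_cancel this
    have hodd : (2 ^ (n - 1) - 2) = 2 * (2 ^ (n - 2) - 1) := by
      have : 2 ^ (n - 1) = 2 * 2 ^ (n - 2) := by rw [← pow_succ']; congr 1; omega
      omega
    have hg : Nat.gcd (2 ^ (n - 1) - 2) (2 ^ n) = 2 := by
      have h8 : 2 ^ n = 2 * 2 ^ (n - 1) := by rw [← pow_succ']; congr 1; omega
      rw [hodd, h8, Nat.gcd_mul_left]
      have hc : Nat.Coprime (2 ^ (n - 2) - 1) (2 ^ (n - 1)) := by
        refine Nat.Coprime.pow_right _ (Nat.coprime_two_right.2 ?_)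
        exact Nat.Even.sub_odd (Nat.one_le_two_pow) ((Nat.even_pow).2 ⟨even_two, by omega⟩) odd_one
      rw [hc.gcd_eq_one, mul_one]
    rw [← hg]
    exact pow_gcd_eq_one.2 ⟨h3, h2⟩
  · rw [← map_pow, ← hy, pow_orderOf_eq_one, map_one]

end abstract

theorem card_elementary_quot_le_four {S T : Type*} [Group S] [Group T] [Finite T] (g : S →* T)
    (hg : Function.Surjective g) (hT : ∀ t : T, t ^ 2 = 1) (N : Subgroup S) [N.Normal] [IsCyclic N]
    [IsCyclic (S ⧸ N)] : Nat.card T ≤ 4 := by
  set M := N.map g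
  haveI : M.Normal := Subgroup.Normal.map inferInstance g hg
  haveI : IsCyclic M := isCyclic_of_surjective _ (g.subgroupMap_surjective N)
  haveI : IsCyclic (T ⧸ M) := by
    refine isCyclic_of_surjective (QuotientGroup.map N M g (Subgroup.le_comap_map g N)) ?_
    intro x
    obtain ⟨t, rfl⟩ := QuotientGroup.mk'_surjective M x
    obtain ⟨s, rfl⟩ := hg t
    exact ⟨QuotientGroup.mk' N s, rfl⟩
  have h1 : Nat.card M ∣ 2 := by
    rw [← IsCyclic.exponent_eq_card]
    exact Monoid.exponent_dvd_of_forall_pow_eq_one fun m => Subtype.ext (by simpa using hT m)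
  have h2 : Nat.card (T ⧸ M) ∣ 2 := by
    rw [← IsCyclic.exponent_eq_card]
    refine Monoid.exponent_dvd_of_forall_pow_eq_one fun x => ?_
    obtain ⟨t, rfl⟩ := QuotientGroup.mk'_surjective M x
    rw [← map_pow, hT, map_one]
  rw [Subgroup.card_eq_card_quotient_mul_card_subgroup M]
  exact Nat.mul_le_mul (Nat.le_of_dvd two_pos h2) (Nat.le_of_dvd two_pos h1)

/-- A homocyclic metacyclic `2`-group has at most two factors. -/
theorem factors_le_two {S : Type*} [Group S] {n k : ℕ} (hn : 1 ≤ n) (N : Subgroup S) [N.Normal]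
    [IsCyclic N] [IsCyclic (S ⧸ N)] (e : S ≃* Multiplicative (Fin k → ZMod (2 ^ n))) : k ≤ 2 := by
  let r : ZMod (2 ^ n) →+* ZMod 2 := ZMod.castHom (dvd_pow_self 2 (by omega)) _
  let φ : (Fin k → ZMod (2 ^ n)) →+ (Fin k → ZMod 2) := r.toAddMonoidHom.compLeft (Fin k)
  have hφ : Function.Surjective φ := fun v => by
    choose w hw using fun i => ZMod.castHom_surjective (dvd_pow_self 2 (by omega : n ≠ 0)) (v i)
    exact ⟨w, funext hw⟩
  have h := card_elementary_quot_le_four (φ.toMultiplicative.comp e.toMonoidHom)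
    ((Multiplicative.ofAdd.surjective.comp (hφ.comp Multiplicative.toAdd.surjective)).comp e.surjective)
    (fun t => Multiplicative.toAdd.injective (by
      rw [toAdd_pow, toAdd_one, two_nsmul]
      funext i
      exact CharTwo.add_self_eq_zero (Multiplicative.toAdd t i))) N
  rw [Nat.card_eq_fintype_card, Fintype.card_multiplicative, Fintype.card_fun, ZMod.card,
    Fintype.card_fin] at h
  by_contra hk
  have : 2 ^ 3 ≤ 2 ^ k := Nat.pow_le_pow_right two_pos (by omega)
  omega

universe v

variable {G : Type v} [Group G] [Finite G]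

theorem hasNormalPComplement_of_inner {p : ℕ} [Fact p.Prime] (S : Sylow p G)
    (h : ∀ P : Subgroup G, (Cfsg.groupFusionSystem (S : Subgroup G)).Hom P =
      (Cfsg.innerFusionSystem (S : Subgroup G)).Hom P) : Cfsg.HasNormalPComplement p G := by
  refine CfsgLib.Transfer.hasNormalPComplement_of_pLocal_centralizes fun Q hQ g hg hgc => ?_
  obtain ⟨W, hW⟩ := hQ.exists_le_sylow
  obtain ⟨x, hx⟩ := MulAction.exists_smul_eq G W S
  have hxu : ∀ u ∈ Q, x * u * x⁻¹ ∈ (S : Subgroup G) := fun u hu => by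
    rw [← hx]
    exact CfsgLib.Transfer.mem_smul_sylow x (hW hu)
  set P := Q.map (MulAut.conj x).toMonoidHom
  have hP : P ≤ (S : Subgroup G) := by
    rintro _ ⟨u, hu, rfl⟩
    exact hxu u hu
  set g' := x * g * x⁻¹
  have hgP : ∀ y ∈ P, g' * y * g'⁻¹ ∈ P := by
    rintro _ ⟨u, hu, rfl⟩
    exact ⟨g * u * g⁻¹, (Subgroup.mem_normalizer_iff.1 hg u).1 hu, by simp [g', mul_assoc]⟩
  have hmem : (MulAut.conj g').toMonoidHom.comp P.subtype ∈
      (Cfsg.groupFusionSystem (S : Subgroup G)).Hom P :=
    ⟨hP, fun y => hP (hgP y y.2), g', fun _ => rfl⟩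
  rw [h] at hmem
  obtain ⟨-, s, hs, hse⟩ := hmem
  have hse' : ∀ y ∈ P, g' * y * g'⁻¹ = s * y * s⁻¹ := fun y hy => hse ⟨y, hy⟩
  obtain ⟨k, hk⟩ := IsPGroup.iff_orderOf.1 S.isPGroup' ⟨s, hs⟩
  rw [Subgroup.orderOf_mk] at hk
  -- the two conjugations have the same powers
  have hiter : ∀ n : ℕ, ∀ y ∈ P, g' ^ n * y * (g' ^ n)⁻¹ = s ^ n * y * (s ^ n)⁻¹ ∧
      g' ^ n * y * (g' ^ n)⁻¹ ∈ P := by
    intro n
    induction n with
    | zero => intro y hy; simp [hy]
    | succ n ih =>
      intro y hy
      have e : ∀ z : G, z ^ (n + 1) * y * (z ^ (n + 1))⁻¹ = z * (z ^ n * y * (z ^ n)⁻¹) * z⁻¹ := by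
        intro z; rw [pow_succ']; group
      rw [e g', e s]
      refine ⟨?_, hgP _ (ih y hy).2⟩
      rw [hse' _ (ih y hy).2, (ih y hy).1]
  have hg' : (orderOf g').Coprime p := by
    rw [show orderOf g' = orderOf g by simpa [g'] using MulEquiv.orderOf_eq (MulAut.conj x) g]
    exact hgc
  obtain ⟨a, ha⟩ : ∃ a : ℕ, (g' ^ p ^ k) ^ a = g' := by
    obtain ⟨a, ha⟩ := exists_pow_eq_self_of_coprime (x := g') (hg'.symm.pow_left k)
    exact ⟨a, ha⟩
  rw [Subgroup.mem_centralizer_iff]
  intro u hu
  have hy : x * u * x⁻¹ ∈ P := ⟨u, hu, rfl⟩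
  have h1 : Commute (g' ^ p ^ k) (x * u * x⁻¹) := by
    have := (hiter (p ^ k) _ hy).1
    rw [← hk, pow_orderOf_eq_one, one_mul, inv_one, mul_one, mul_inv_eq_iff_eq_mul] at this
    rw [hk] at this
    exact this
  have h2 := h1.pow_left a
  rw [ha] at h2
  exact ((MulAut.conj x).injective (by simpa [g', mul_assoc] using h2.eq.symm))

/-- Brauer: a homocyclic Sylow `2`-subgroup of rank two and exponent at least four. -/
theorem brauer (hFT : CfsgLib.OddStep.P0205.{v}) (S : Sylow 2 G) (n : ℕ) (hn : 2 ≤ n)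
    (e : ↥(S : Subgroup G) ≃* Multiplicative (ZMod (2 ^ n) × ZMod (2 ^ n))) :
    Group.IsSolvable G := by
  haveI : Fact (Nat.Prime 2) := ⟨Nat.prime_two⟩
  haveI hKn : (Cfsg.pPrimeCore 2 G).Normal := CfsgLib.Constrained.instNormalPPrimeCore 2
  set K := Cfsg.pPrimeCore 2 G
  have hK : Odd (Nat.card K) :=
    Nat.odd_iff.2 (Nat.two_dvd_ne_zero.1 CfsgLib.Constrained.pPrimeCore_not_dvd)
  have hdisj : Disjoint (S : Subgroup G) K := Subgroup.disjoint_of_coprime_natCard (by
    obtain ⟨j, hj⟩ := IsPGroup.iff_card.1 S.isPGroup'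
    rw [hj]; exact (Nat.coprime_two_left.2 hK).pow_left j)
  set P : Sylow 2 (G ⧸ K) := S.mapSurjective (QuotientGroup.mk'_surjective K)
  have hinj : Function.Injective ((QuotientGroup.mk' K).subgroupMap (S : Subgroup G)) := by
    rw [injective_iff_map_eq_one]
    intro y hy
    have h1 : (y : G) ∈ K := (QuotientGroup.eq_one_iff _).1 (congrArg Subtype.val hy)
    exact Subtype.ext (Subgroup.mem_bot.1 (hdisj.le_bot ⟨y.2, h1⟩))
  let e₁ : ↥(S : Subgroup G) ≃* ↥((S : Subgroup G).map (QuotientGroup.mk' K)) :=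
    MulEquiv.ofBijective _ ⟨hinj, (QuotientGroup.mk' K).subgroupMap_surjective _⟩
  have hO : ∀ M : Subgroup (G ⧸ K), M.Normal → Odd (Nat.card M) → M = ⊥ := by
    intro M hM hodd
    have := CfsgLib.Constrained.le_pPrimeCore hM (Nat.coprime_two_right.2 hodd)
    rw [CfsgLib.Constrained.pPrimeCore_quotient_pPrimeCore] at this
    exact le_bot_iff.1 this
  obtain ⟨hPn, -, hidx⟩ := Cfsg.Agent.S0949.result P n hn (e₁.symm.trans e) hO
  haveI := hPn
  refine Basic.isSolvable_of_normal K (hFT hK) (Basic.isSolvable_of_normal (P : Subgroup (G ⧸ K)) ?_ ?_)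
  · haveI := P.isPGroup'.isNilpotent
    infer_instance
  · rcases hidx with h | h
    · haveI : Subsingleton ((G ⧸ K) ⧸ (P : Subgroup (G ⧸ K))) :=
        (Nat.card_eq_one_iff_unique.1 (by rw [← Subgroup.index_eq_card, h])).1
      infer_instance
    · haveI : Fact (Nat.Prime 3) := ⟨Nat.prime_three⟩
      have hc : Nat.card ((G ⧸ K) ⧸ (P : Subgroup (G ⧸ K))) = 3 := by rw [← Subgroup.index_eq_card, h]
      haveI := isCyclic_of_prime_card hc
      exact Group.isSolvable_of_comm (IsCyclic.commGroup.mul_comm)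

/-- S4418, from the odd order theorem. -/
theorem isSolvable (hFT : CfsgLib.OddStep.P0205.{v}) (S : Sylow 2 G)
    (N : Subgroup ↥(S : Subgroup G)) [N.Normal] (hNc : IsCyclic N)
    (hQc : IsCyclic (↥(S : Subgroup G) ⧸ N)) (hQ : 2 < Nat.card (↥(S : Subgroup G) ⧸ N)) :
    Group.IsSolvable G := by
  haveI : Fact (Nat.Prime 2) := ⟨Nat.prime_two⟩
  have hnc : Cfsg.HasNormalPComplement 2 G → Group.IsSolvable G := by
    rintro ⟨P, M, hM, hc⟩
    have hModd : Odd (Nat.card M) := by
      rw [← hc.index_eq_card]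
      exact Nat.odd_iff.2 (Nat.two_dvd_ne_zero.1 P.not_dvd_index)
    refine Basic.isSolvable_of_normal M (hFT hModd) ?_
    haveI := P.isPGroup'.isNilpotent
    exact Group.isSolvable_of_surjective
      (f := (hc.symm.QuotientMulEquiv).symm.toMonoidHom) hc.symm.QuotientMulEquiv.symm.surjective
  by_cases hcyc : IsCyclic (S : Subgroup G)
  · refine hnc ⟨S, _, inferInstance, hcyc.isComplement' ?_⟩
    haveI : Nontrivial (↥(S : Subgroup G) ⧸ N) := Finite.one_lt_card_iff_nontrivial.1 (by omega)
    refine (Nat.minFac_eq_two_iff _).2 ?_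
    obtain ⟨j, hj⟩ := IsPGroup.iff_card.1 (S.isPGroup'.to_quotient N)
    have hj0 : j ≠ 0 := by rintro rfl; simp at hj; omega
    exact ((dvd_pow_self 2 hj0).trans (hj ▸ Subgroup.card_quotient_dvd_card N)).trans
      (Subgroup.card_subgroup_dvd_card _)
  have hd : ¬ ∃ m : ℕ, Nonempty (↥(S : Subgroup G) ≃* DihedralGroup m) := by
    rintro ⟨m, ⟨e⟩⟩
    have := dihedral_quot ((QuotientGroup.mk' N).comp e.symm.toMonoidHom)
      ((QuotientGroup.mk'_surjective N).comp e.symm.surjective)
    omega
  have hq : ¬ ∃ m : ℕ, Nonempty (↥(S : Subgroup G) ≃* QuaternionGroup m) := by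
    rintro ⟨m, ⟨e⟩⟩
    by_cases hm : 2 ∣ m
    · have := quaternion_quot hm ((QuotientGroup.mk' N).comp e.symm.toMonoidHom)
        ((QuotientGroup.mk'_surjective N).comp e.symm.surjective)
      omega
    · obtain ⟨j, hj⟩ := IsPGroup.iff_card.1 S.isPGroup'
      have hm0 : m ≠ 0 := by rintro rfl; exact hm (dvd_zero 2)
      haveI : NeZero m := ⟨hm0⟩
      have hc : Nat.card ↥(S : Subgroup G) = 4 * m := by
        rw [Nat.card_congr e.toEquiv, Nat.card_eq_fintype_card, QuaternionGroup.card]
      obtain ⟨i, -, hi⟩ := (Nat.dvd_prime_pow Nat.prime_two).1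
        (show m ∣ 2 ^ j from ⟨4, by rw [← hj, hc, mul_comm]⟩)
      rcases Nat.eq_zero_or_pos i with rfl | hi0
      · rw [pow_zero] at hi
        subst hi
        haveI : IsCyclic (QuaternionGroup 1) := QuaternionGroup.quaternionGroup_one_isCyclic
        exact hcyc (isCyclic_of_injective e.toMonoidHom e.injective)
      · exact hm (hi ▸ dvd_pow_self 2 hi0.ne')
  have hsd : ¬ Cfsg.IsQuasiDihedral ↥(S : Subgroup G) := fun hsd => by
    have := quasiDihedral_quot hsd (QuotientGroup.mk' N) (QuotientGroup.mk'_surjective N)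
    omega
  by_cases hh : ∃ n k : ℕ, Nonempty (↥(S : Subgroup G) ≃* Multiplicative (Fin k → ZMod (2 ^ n)))
  · obtain ⟨n, k, ⟨e⟩⟩ := hh
    have hcard : Nat.card ↥(S : Subgroup G) = (2 ^ n) ^ k := by
      rw [Nat.card_congr e.toEquiv, Nat.card_eq_fintype_card, Fintype.card_multiplicative,
        Fintype.card_fun, ZMod.card, Fintype.card_fin]
    have hge : 2 < Nat.card ↥(S : Subgroup G) :=
      hQ.trans_le (Nat.le_of_dvd Nat.card_pos (Subgroup.card_quotient_dvd_card N))
    have hn : 1 ≤ n := by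
      rcases Nat.eq_zero_or_pos n with rfl | h
      · rw [pow_zero, one_pow] at hcard; omega
      · exact h
    have hk := factors_le_two hn N e
    interval_cases k
    · rw [pow_zero] at hcard; omega
    · refine absurd ?_ hcyc
      have e1 := e.trans
        (AddEquiv.toMultiplicative (RingEquiv.piUnique (fun _ : Fin 1 => ZMod (2 ^ n))).toAddEquiv)
      exact isCyclic_of_injective e1.toMonoidHom e1.injective
    · have e' := e.trans (AddEquiv.toMultiplicative
        (RingEquiv.piFinTwo (fun _ : Fin 2 => ZMod (2 ^ n))).toAddEquiv)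
      have hn2 : 2 ≤ n := by
        by_contra hlt
        obtain rfl : n = 1 := by omega
        haveI := hQc
        have h2 : Monoid.exponent (↥(S : Subgroup G) ⧸ N) ∣ 2 := by
          refine Monoid.exponent_dvd_of_forall_pow_eq_one fun x => ?_
          obtain ⟨y, rfl⟩ := QuotientGroup.mk'_surjective N x
          have hy : y ^ 2 = 1 := e.injective (by
            rw [map_pow, map_one]
            refine Multiplicative.toAdd.injective ?_
            rw [toAdd_pow, toAdd_one, two_nsmul]
            funext i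
            exact CharTwo.add_self_eq_zero (Multiplicative.toAdd (e y) i))
          rw [← map_pow, hy, map_one]
        rw [IsCyclic.exponent_eq_card] at h2
        exact absurd (Nat.le_of_dvd two_pos h2) (by omega)
      -- Brauer, modulo the odd core
      exact brauer hFT S n hn2 e'
  · have hinn := Cfsg.Agent.S5212.result S.isPGroup' _ (CfsgLib.Fus.isSaturated_group (S := S))
      ⟨N, inferInstance, hNc, hQc⟩ hh hd hq hsd
    exact hnc (hasNormalPComplement_of_inner S hinn)

end CfsgLib.OddCons.MetacyclicSylow
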