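import Cfsg.Agent.OddCons.InvariantNilpotent
import Cfsg.Agent.OddCons.ClassTwoSylow

/-!
# A nilpotent maximal invariant subgroup whose Sylow 2-subgroup has class at most two

Coprime action, with the odd order theorem as hypothesis: a finite group with such a maximal
invariant subgroup is solvable.  For each odd prime dividing the order of the subgroup there is a
normal complement by Glauberman–Thompson; on the intersection of these complements the odd part of
the operators gives the setting of `ClassTwoSylow`.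
-/

set_option autoImplicit false

open Cfsg CfsgLib.FpfAut

namespace CfsgLib.OddCons.NilpotentMaximal

universe u v

open CfsgLib.OddCons.ClassTwoSylow (cc ClassTwo)

section Operators

variable {A : Type v} [Group A] {G : Type u} [Group G] [MulDistribMulAction A G]

/-- The automorphisms of an invariant subgroup induced by the operators. -/
def restrictAut {H : Subgroup G} (hH : IsInv A H) : A →* MulAut H where
  toFun a :=
    { toFun := fun x => ⟨a • (x : G), hH a x x.2⟩
      invFun := fun x => ⟨a⁻¹ • (x : G), hH a⁻¹ x x.2⟩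
      left_inv := fun x => Subtype.ext (inv_smul_smul a (x : G))
      right_inv := fun x => Subtype.ext (smul_inv_smul a (x : G))
      map_mul' := fun x y => Subtype.ext (smul_mul' a (x : G) y) }
  map_one' := MulEquiv.ext fun x => Subtype.ext (one_smul A (x : G))
  map_mul' a b := MulEquiv.ext fun x => Subtype.ext (mul_smul a b (x : G))

/-- The semidirect product of an invariant subgroup with the operators, acting on an invariant
normal subgroup. -/
def opHom {O K : Subgroup G} [K.Normal] (hO : IsInv A O) (hK : IsInv A K) :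
    O ⋊[restrictAut hO] A →* MulAut K :=
  SemidirectProduct.lift ((MulAut.conjNormal (H := K)).comp O.subtype) (restrictAut hK) fun a => by
    refine MonoidHom.ext fun x => MulEquiv.ext fun k => Subtype.ext ?_
    show (a • (x : G)) * (k : G) * (a • (x : G))⁻¹ = a • ((x : G) * (a⁻¹ • (k : G)) * (x : G)⁻¹)
    simp [smul_mul']

theorem opHom_inl {O K : Subgroup G} [K.Normal] (hO : IsInv A O) (hK : IsInv A K) (x : O) (k : K) :
    ((opHom hO hK (SemidirectProduct.inl x)) k : G) = x * k * (x : G)⁻¹ := by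
  simp [opHom]

theorem opHom_inr {O K : Subgroup G} [K.Normal] (hO : IsInv A O) (hK : IsInv A K) (a : A) (k : K) :
    ((opHom hO hK (SemidirectProduct.inr a)) k : G) = a • (k : G) := by
  simp [opHom]; rfl

end Operators

variable {A : Type v} [Group A] [Finite A]

theorem orderOf_smul {G : Type u} [Group G] [MulDistribMulAction A G] (a : A) (x : G) :
    orderOf (a • x) = orderOf x :=
  (MulDistribMulAction.toMulEquiv G a).orderOf_eq x

/-- The image of a 2-element of the quotient lifts to a 2-element. -/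
theorem exists_lift_two {G : Type u} [Group G] [Finite G] {N M : Subgroup G} [N.Normal] {x : G}
    (hx : x ∈ M) (h : ∃ k : ℕ, orderOf (x : G ⧸ N) ∣ 2 ^ k) :
    ∃ y ∈ M, (∃ k : ℕ, orderOf y ∣ 2 ^ k) ∧ (y : G ⧸ N) = x := by
  haveI : Fact (Nat.Prime 2) := ⟨Nat.prime_two⟩
  obtain ⟨a, b, ha, hb, hab, ⟨k, hak⟩, hbc⟩ :=
    CfsgLib.Transfer.exists_pPart_decomposition (p := 2) x
  refine ⟨a, (Subgroup.zpowers_le.2 hx) ha, ⟨k, hak⟩, ?_⟩
  obtain ⟨j, hj⟩ := h
  have hb1 : (b : G ⧸ N) = 1 := by
    rw [← orderOf_eq_one_iff]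
    obtain ⟨i, hi⟩ := hb
    refine Nat.eq_one_of_dvd_coprimes (Nat.Coprime.pow_right j hbc) ?_ ?_
    · exact orderOf_map_dvd (QuotientGroup.mk' N) b
    · refine dvd_trans ?_ hj
      rw [← hi]
      exact orderOf_dvd_of_mem_zpowers ⟨i, rfl⟩
  rw [hab, QuotientGroup.mk_mul, hb1, mul_one]

/-- **Nilpotent maximal invariant subgroup, Sylow 2-subgroup of class at most two.** -/
theorem isSolvable (hFT : CfsgLib.OddStep.P0205.{u}) :
    ∀ (n : ℕ) (G : Type u) [Group G] [Finite G] [MulDistribMulAction A G], Nat.card G = n →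
      (Nat.card A).Coprime (Nat.card G) → ∀ M : Subgroup G, M ≠ ⊤ → IsInv A M →
      (∀ H : Subgroup G, M ≤ H → H ≠ ⊤ → IsInv A H → H = M) → Group.IsNilpotent M →
      (∀ a ∈ M, ∀ b ∈ M, ∀ c ∈ M, (∃ k : ℕ, orderOf a ∣ 2 ^ k) → (∃ k : ℕ, orderOf b ∣ 2 ^ k) →
        (∃ k : ℕ, orderOf c ∣ 2 ^ k) → cc a b * c = c * cc a b) →
      Group.IsSolvable G := by
  intro n
  induction n using Nat.strong_induction_on with
  | _ n ih =>
  intro G _ _ _ hG hcop M hMtop hMi hMmax hnil hcl
  haveI := hnil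
  have hMsol : Group.IsSolvable M := inferInstance
  by_cases hcore : ∃ N : Subgroup G, N.Normal ∧ IsInv A N ∧ N ≠ ⊥ ∧ N ≤ M
  · obtain ⟨N, hN, hNi, hN1, hNM⟩ := hcore
    letI := quotientAction N hNi
    haveI : Group.IsSolvable N :=
      Group.isSolvable_of_isSolvable_injective (Subgroup.inclusion_injective hNM)
    haveI : Group.IsSolvable (G ⧸ N) := by
      set π := QuotientGroup.mk' N with hπdef
      have hπ : Function.Surjective π := QuotientGroup.mk'_surjective N
      have hcm : (M.map π).comap π = M := by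
        rw [Subgroup.comap_map_eq, QuotientGroup.ker_mk', sup_eq_left.mpr hNM]
      refine ih (Nat.card (G ⧸ N)) ?_ (G ⧸ N) rfl
        (hcop.coprime_dvd_right (Subgroup.card_quotient_dvd_card N)) (M.map π) ?_ ?_ ?_
        (Group.nilpotent_of_surjective (π.subgroupMap M) (π.subgroupMap_surjective M)) ?_
      · rw [← hG, Subgroup.card_eq_card_quotient_mul_card_subgroup N]
        exact lt_mul_of_one_lt_right Nat.card_pos ((Subgroup.one_lt_card_iff_ne_bot N).2 hN1)
      · intro h
        rw [h, Subgroup.comap_top] at hcm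
        exact hMtop hcm.symm
      · rintro a _ ⟨m, hm, rfl⟩
        exact ⟨a • m, hMi a m hm, rfl⟩
      · intro H hle hH hHi
        have h1 : H.comap π = M := hMmax _ (hcm ▸ Subgroup.comap_mono hle)
          (fun e => hH (Subgroup.comap_injective hπ (by rw [e, Subgroup.comap_top])))
          (fun a x hx => hHi a (π x) hx)
        rw [← Subgroup.map_comap_eq_self_of_surjective hπ H, h1]
      · rintro _ ⟨a, ha, rfl⟩ _ ⟨b, hb, rfl⟩ _ ⟨c, hc, rfl⟩ h1 h2 h3
        obtain ⟨a', ha', ha2, ea⟩ := exists_lift_two (N := N) ha h1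
        obtain ⟨b', hb', hb2, eb⟩ := exists_lift_two (N := N) hb h2
        obtain ⟨c', hc', hc2, ec⟩ := exists_lift_two (N := N) hc h3
        have h := congrArg π (hcl a' ha' b' hb' c' hc' ha2 hb2 hc2)
        simp only [cc, map_mul, map_inv] at h
        simp only [cc]
        rwa [show π a' = π a from ea, show π b' = π b from eb, show π c' = π c from ec] at h
    exact (Group.isSolvable_iff_subgroup_quotient N).mpr ⟨‹_›, ‹_›⟩
  push_neg at hcore
  have hself : ∀ Q : Subgroup G, Q ≤ M → Q ≠ ⊥ → IsInv A Q →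
      M ≤ Subgroup.normalizer (Q : Set G) → Subgroup.normalizer (Q : Set G) = M := by
    intro Q hQM hQ hQi hle
    refine hMmax _ hle (fun e => ?_) (InvariantNilpotent.isInv_normalizer hQi)
    exact hcore Q (Subgroup.normalizer_eq_top_iff.mp e) hQi hQ hQM
  -- each prime divisor of `|M|` has its Sylow subgroup inside `M`
  have hsyl : ∀ p, p.Prime → p ∣ Nat.card M → ∃ S : Sylow p G, (S : Subgroup G) ≤ M ∧
      (S : Subgroup G) ≠ ⊥ ∧ IsInv A (S : Subgroup G) ∧
      M ≤ Subgroup.normalizer ((S : Subgroup G) : Set G) ∧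
      ∀ x ∈ M, (∃ k : ℕ, orderOf x ∣ p ^ k) → x ∈ (S : Subgroup G) := by
    intro p hp hpM
    haveI := Fact.mk hp
    let T : Sylow p M := default
    haveI hTn : (T : Subgroup M).Normal := inferInstance
    set Q := (T : Subgroup M).map M.subtype with hQdef
    have hQM : Q ≤ M := Subgroup.map_subtype_le _
    have hQ1 : Q ≠ ⊥ := fun h => T.ne_bot_of_dvd_card hpM
      ((Subgroup.map_eq_bot_iff_of_injective _ M.subtype_injective).1 h)
    have hpe : ∀ x ∈ M, (∃ k : ℕ, orderOf x ∣ p ^ k) → x ∈ Q := by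
      rintro x hx ⟨k, hk⟩
      obtain ⟨T', hT'⟩ := (IsPGroup.of_card_dvd_pow (p := p) (n := k)
        (show Nat.card (Subgroup.zpowers (⟨x, hx⟩ : M)) ∣ p ^ k by
          rw [Nat.card_zpowers, ← Subgroup.orderOf_coe]; exact hk)).exists_le_sylow
      haveI := Sylow.unique_of_normal T hTn
      exact ⟨⟨x, hx⟩, (Subsingleton.elim T' T) ▸ hT' (Subgroup.mem_zpowers _), rfl⟩
    have hQi : IsInv A Q := by
      rintro a _ ⟨y, hy, rfl⟩
      refine hpe _ (hMi a _ y.2) ?_
      obtain ⟨k, hk⟩ := T.2 ⟨y, hy⟩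
      refine ⟨k, ?_⟩
      rw [orderOf_smul]
      exact orderOf_dvd_of_pow_eq_one (congrArg (fun z => M.subtype (Subtype.val z)) hk)
    have hMN : M ≤ Subgroup.normalizer (Q : Set G) := fun m hm => by
      have hconj : ∀ m ∈ M, ∀ x ∈ Q, m * x * m⁻¹ ∈ Q := by
        rintro m hm _ ⟨y, hy, rfl⟩
        exact ⟨⟨m, hm⟩ * y * ⟨m, hm⟩⁻¹, hTn.conj_mem y hy _, rfl⟩
      exact Subgroup.mem_normalizer_iff.2 fun x => ⟨hconj m hm x, fun hx => by
        simpa [mul_assoc] using hconj m⁻¹ (inv_mem hm) _ hx⟩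
    have hNQ : Subgroup.normalizer (Q : Set G) = M := hself Q hQM hQ1 hQi hMN
    obtain ⟨S, hS⟩ := (T.2.map M.subtype : IsPGroup p Q).exists_le_sylow
    have hSQ : (S : Subgroup G) = Q := by
      by_contra hne
      have hlt : Q.subgroupOf (S : Subgroup G) < ⊤ := by
        rw [lt_top_iff_ne_top, Ne, Subgroup.subgroupOf_eq_top]
        exact fun h => hne (le_antisymm h hS)
      haveI := S.2.isNilpotent
      obtain ⟨x, hx, hxQ⟩ := SetLike.exists_of_lt
        (Group.normalizerCondition_of_isNilpotent (Q.subgroupOf (S : Subgroup G)) hlt)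
      have hxN : (x : G) ∈ Subgroup.normalizer (Q : Set G) := by
        rw [Subgroup.mem_normalizer_iff] at hx ⊢
        intro y
        constructor
        · intro hy
          exact (hx ⟨y, hS hy⟩).mp hy
        · intro hy
          have hy2 : y ∈ (S : Subgroup G) := by
            have := mul_mem (mul_mem (inv_mem x.2) (hS hy)) x.2
            simpa [mul_assoc] using this
          exact (hx ⟨y, hy2⟩).mpr hy
      rw [hNQ] at hxN
      obtain ⟨k, hk⟩ := S.2 x
      exact hxQ (show (x : G) ∈ Q from hpe _ hxN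
        ⟨k, orderOf_dvd_of_pow_eq_one (congrArg Subtype.val hk)⟩)
    exact ⟨S, hSQ ▸ hQM, hSQ ▸ hQ1, hSQ ▸ hQi, hSQ ▸ hMN, hSQ ▸ hpe⟩
  -- the complements for the odd primes
  have hloc : ∀ p ∈ ((Nat.card M).primeFactors.erase 2), Cfsg.HasNormalPComplement p G := by
    intro p hp
    rw [Finset.mem_erase, Nat.mem_primeFactors] at hp
    obtain ⟨hp2, hpp, hpd, -⟩ := hp
    haveI := Fact.mk hpp
    obtain ⟨S, hSM, hS1, hSi, hMS, -⟩ := hsyl p hpp hpd
    refine CfsgLib.Hughes.gtHyp G p hp2 S fun W hW1 hWS hWaut => ?_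
    have hWi : IsInv A W := fun a x hx => by
      have hmap : (S : Subgroup G).map (MulDistribMulAction.toMulAut A G a).toMonoidHom = S :=
        Subgroup.eq_of_le_of_card_ge (by rintro _ ⟨y, hy, rfl⟩; exact hSi a y hy)
          (by rw [Subgroup.card_map_of_injective (MulEquiv.injective _)])
      exact (hWaut _ hmap).le ⟨x, hx, rfl⟩
    have hMW : M ≤ Subgroup.normalizer (W : Set G) := fun m hm => by
      rw [Subgroup.mem_normalizer_iff_map_conj_eq]
      exact hWaut _ ((Subgroup.mem_normalizer_iff_map_conj_eq).1 (hMS hm))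
    exact CfsgLib.Hughes.hasNormalPComplement_of_isNilpotent
      (by rw [hself W (hWS.trans hSM) hW1 hWi hMW]; exact hnil)
  set π := (Nat.card M).primeFactors.erase 2 with hπdef
  let K : Subgroup G := ⨅ p ∈ π, Cfsg.pResidual p G
  have hKmem : ∀ g, g ∈ K ↔ ∀ p ∈ π, (orderOf g).Coprime p := by
    intro g
    simp only [K, Subgroup.mem_iInf]
    refine forall₂_congr fun p hp => ?_
    haveI := Fact.mk (Nat.prime_of_mem_primeFactors (Finset.mem_of_mem_erase hp))
    exact CfsgLib.Transfer.mem_pResidual_iff (hloc p hp) g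
  haveI hKn : K.Normal := ⟨fun k hk g => (hKmem _).mpr fun p hp => by
    have := (hKmem k).mp hk p hp
    rwa [show orderOf (g * k * g⁻¹) = orderOf k from MulEquiv.orderOf_eq (MulAut.conj g) k]⟩
  have hKi : IsInv A K := fun a x hx => (hKmem _).mpr fun p hp => by
    rw [orderOf_smul]; exact (hKmem x).mp hx p hp
  have hKtwo : ∀ x : G, (∃ k : ℕ, orderOf x ∣ 2 ^ k) → x ∈ K := by
    rintro x ⟨k, hk⟩
    refine (hKmem x).mpr fun p hp => Nat.Coprime.coprime_dvd_left hk (Nat.Coprime.pow_left k ?_)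
    exact (Nat.coprime_primes Nat.prime_two (Nat.prime_of_mem_primeFactors
      (Finset.mem_of_mem_erase hp))).2 (Finset.ne_of_mem_erase hp).symm
  -- `M` and `K` together give everything
  have hKM : ¬ K ≤ M := by
    intro hle
    have hK0 : K = ⊥ := by
      by_contra h
      exact hcore K hKn hKi h hle
    refine hMtop (Subgroup.index_eq_one.1 ?_)
    by_contra hne
    obtain ⟨q, hq, hqd⟩ := Nat.exists_prime_and_dvd hne
    haveI := Fact.mk hq
    by_cases hqM : q ∣ Nat.card M
    · obtain ⟨S, hSM, -⟩ := hsyl q hq hqM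
      exact S.not_dvd_index (hqd.trans (Subgroup.index_dvd_of_le hSM))
    obtain ⟨x, hx⟩ := exists_prime_orderOf_dvd_card' (G := G) q (hqd.trans M.index_dvd_card)
    have hxK : x ∈ K := (hKmem x).mpr fun p hp => by
      obtain ⟨-, hp'⟩ := Finset.mem_erase.1 hp
      obtain ⟨hpp, hpd, -⟩ := Nat.mem_primeFactors.mp hp'
      rw [hx]
      exact (Nat.coprime_primes hq hpp).mpr fun h => hqM (h ▸ hpd)
    rw [hK0, Subgroup.mem_bot] at hxK
    rw [hxK, orderOf_one] at hx
    exact hq.one_lt.ne hx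
  have hsup : M ⊔ K = ⊤ := by
    by_contra h
    refine hKM (le_sup_right.trans (hMmax _ le_sup_left h ?_).le)
    intro a x hx
    obtain ⟨m, hm, k, hk, rfl⟩ := Subgroup.mem_sup_of_normal_right.1 hx
    rw [smul_mul']
    exact Subgroup.mul_mem_sup (hMi a m hm) (hKi a k hk)
  suffices hK : Group.IsSolvable K by
    haveI := hK
    haveI : Group.IsSolvable (G ⧸ K) := by
      refine Group.isSolvable_of_surjective (f := (QuotientGroup.mk' K).comp M.subtype) fun x => ?_
      obtain ⟨g, rfl⟩ := QuotientGroup.mk'_surjective K x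
      obtain ⟨a, ha, b, hb, rfl⟩ := Subgroup.mem_sup_of_normal_right.1
        (hsup ▸ Subgroup.mem_top g : g ∈ M ⊔ K)
      exact ⟨⟨a, ha⟩, by simp [(QuotientGroup.eq_one_iff b).mpr hb]⟩
    exact (Group.isSolvable_iff_subgroup_quotient K).mpr ⟨‹_›, ‹_›⟩
  -- the odd part of `M`
  haveI : Fact (Nat.Prime 2) := ⟨Nat.prime_two⟩
  have hnpcM : Cfsg.HasNormalPComplement 2 M := CfsgLib.Hughes.hasNormalPComplement_of_isNilpotent hnil
  set O : Subgroup G := (Cfsg.pResidual 2 M).map M.subtype with hOdef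
  have hOmem : ∀ x, x ∈ O ↔ x ∈ M ∧ (orderOf x).Coprime 2 := by
    intro x
    constructor
    · rintro ⟨y, hy, rfl⟩
      exact ⟨y.2, by
        rw [Subgroup.coe_subtype, Subgroup.orderOf_coe]
        exact (CfsgLib.Transfer.mem_pResidual_iff hnpcM y).1 hy⟩
    · rintro ⟨hx, h2⟩
      exact ⟨⟨x, hx⟩, (CfsgLib.Transfer.mem_pResidual_iff hnpcM _).2
        (by rwa [← Subgroup.orderOf_coe]), rfl⟩
  have hOi : IsInv A O := fun a x hx => by
    rw [hOmem] at hx ⊢
    exact ⟨hMi a x hx.1, by rw [orderOf_smul]; exact hx.2⟩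
  have hOK : (Nat.card O).Coprime (Nat.card K) := by
    refine Nat.coprime_of_dvd fun q hq hqO hqK => ?_
    haveI := Fact.mk hq
    obtain ⟨k, hk⟩ := exists_prime_orderOf_dvd_card' q hqK
    obtain ⟨o, ho⟩ := exists_prime_orderOf_dvd_card' q hqO
    have hq2 : q ≠ 2 := fun h => by
      have := ((hOmem (o : G)).1 o.2).2
      rw [Subgroup.orderOf_coe, ho, h] at this
      norm_num at this
    have hqM : q ∈ π := Finset.mem_erase.2 ⟨hq2, Nat.mem_primeFactors.2 ⟨hq,
      hqO.trans (Subgroup.card_dvd_of_le (Subgroup.map_subtype_le _)), Nat.card_pos.ne'⟩⟩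
    have h := (hKmem (k : G)).mp k.2 q hqM
    rw [Subgroup.orderOf_coe, hk] at h
    exact hq.one_lt.ne' (Nat.Coprime.eq_one_of_dvd h dvd_rfl)
  haveI : Finite (O ⋊[restrictAut hOi] A) := Finite.of_equiv _ SemidirectProduct.equivProd.symm
  letI : MulDistribMulAction (O ⋊[restrictAut hOi] A) K :=
    MulDistribMulAction.compHom _ (opHom hOi hKi)
  have hcardB : Nat.card (O ⋊[restrictAut hOi] A) = Nat.card O * Nat.card A := SemidirectProduct.card
  -- invariance under the operators
  have hinvK : ∀ Q : Subgroup K, IsInv (O ⋊[restrictAut hOi] A) Q →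
      IsInv A (Q.map K.subtype) ∧ O ≤ Subgroup.normalizer (Q.map K.subtype : Set G) := by
    intro Q hQ
    refine ⟨?_, fun o ho => ?_⟩
    · rintro a _ ⟨q, hq, rfl⟩
      exact ⟨_, hQ (SemidirectProduct.inr a) q hq, opHom_inr hOi hKi a q⟩
    · have hconj : ∀ o ∈ O, ∀ x ∈ Q.map K.subtype, o * x * o⁻¹ ∈ Q.map K.subtype := by
        rintro o ho _ ⟨q, hq, rfl⟩
        exact ⟨_, hQ (SemidirectProduct.inl ⟨o, ho⟩) q hq, opHom_inl hOi hKi ⟨o, ho⟩ q⟩
      exact Subgroup.mem_normalizer_iff.2 fun x => ⟨hconj o ho x, fun hx => by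
        simpa [mul_assoc] using hconj o⁻¹ (inv_mem ho) _ hx⟩
  by_cases h2M : 2 ∣ Nat.card M
  · -- the Sylow 2-subgroup lies in `M`
    obtain ⟨S, hSM, hS1, hSi, hMS, hSe⟩ := hsyl 2 Nat.prime_two h2M
    have hSK : (S : Subgroup G) ≤ K := fun x hx => by
      obtain ⟨k, hk⟩ := S.2 ⟨x, hx⟩
      exact hKtwo x ⟨k, orderOf_dvd_of_pow_eq_one (congrArg Subtype.val hk)⟩
    set S' : Sylow 2 K := S.subtype hSK
    have hdec : ∀ m ∈ M, ∃ s ∈ (S : Subgroup G), ∃ o ∈ O, m = s * o := by
      intro m hm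
      obtain ⟨s, o, hs, ho, e, hsk, hoc⟩ := CfsgLib.Transfer.exists_pPart_decomposition (p := 2) m
      have hzm := Subgroup.zpowers_le.2 hm
      exact ⟨s, hSe s (hzm hs) hsk, o, (hOmem o).2 ⟨hzm ho, hoc⟩, e⟩
    have hsetup : CfsgLib.OddCons.ClassTwoSylow.Setup (O ⋊[restrictAut hOi] A) (S' : Subgroup K) := by
      have hel : ∀ x : K, x ∈ (S' : Subgroup K) → (x : G) ∈ M ∧ ∃ k : ℕ, orderOf (x : G) ∣ 2 ^ k :=
        fun x hx => ⟨hSM hx, by
          obtain ⟨k, hk⟩ := S.2 ⟨x, hx⟩
          exact ⟨k, orderOf_dvd_of_pow_eq_one (congrArg Subtype.val hk)⟩⟩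
      refine ⟨fun a ha b hb c hc => Subtype.ext ?_, fun g s hs => ?_, fun Q hQ1 hQS hQn hQi => ?_⟩
      · have h1 := hel a ha
        have h2 := hel b hb
        have h3 := hel c hc
        simpa [cc] using hcl a h1.1 b h2.1 c h3.1 h1.2 h2.2 h3.2
      · show ((g • s : K) : G) ∈ (S : Subgroup G)
        rw [← SemidirectProduct.inl_left_mul_inr_right g, mul_smul]
        show ((opHom hOi hKi (SemidirectProduct.inl g.left))
          (opHom hOi hKi (SemidirectProduct.inr g.right) s) : G) ∈ _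
        rw [opHom_inl, opHom_inr]
        exact (Subgroup.mem_normalizer_iff.1 (hMS ((hOmem _).1 g.left.2).1) _).1 (hSi _ _ hs)
      · obtain ⟨hQA, hQO⟩ := hinvK Q hQi
        have hQS' : Q.map K.subtype ≤ (S : Subgroup G) := by
          rintro _ ⟨q, hq, rfl⟩; exact hQS hq
        have hSN : (S : Subgroup G) ≤ Subgroup.normalizer (Q.map K.subtype : Set G) := fun s hs =>
          Subgroup.le_normalizer_map K.subtype ⟨⟨s, hSK hs⟩, hQn hs, rfl⟩
        have hN : Subgroup.normalizer (Q.map K.subtype : Set G) = M := by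
          refine hself _ (hQS'.trans hSM)
            (fun h => hQ1 ((Subgroup.map_eq_bot_iff_of_injective _ K.subtype_injective).1 h)) hQA ?_
          intro m hm
          obtain ⟨s, hs, o, ho, rfl⟩ := hdec m hm
          exact mul_mem (hSN hs) (hQO ho)
        intro g hg
        have hgM : (g : G) ∈ M := hN ▸ Subgroup.le_normalizer_map K.subtype ⟨g, hg, rfl⟩
        obtain ⟨s, hs, o, ho, e⟩ := hdec _ hgM
        have hoK : o ∈ K := by
          have : o = s⁻¹ * g := by rw [e, inv_mul_cancel_left]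
          exact this ▸ mul_mem (inv_mem (hSK hs)) g.2
        have ho1 : o = 1 := (Subgroup.inf_eq_bot_of_coprime hOK).le ⟨ho, hoK⟩
        show (g : G) ∈ (S : Subgroup G)
        rw [e, ho1, mul_one]
        exact hs
    have hA : Odd (Nat.card A) := (Nat.even_or_odd _).resolve_left fun h =>
      Nat.not_coprime_of_dvd_of_dvd one_lt_two h.two_dvd
        (h2M.trans M.card_subgroup_dvd_card) hcop
    have hO : Odd (Nat.card O) := (Nat.even_or_odd _).resolve_left fun h => by
      obtain ⟨o, ho⟩ := exists_prime_orderOf_dvd_card' 2 h.two_dvd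
      have := ((hOmem (o : G)).1 o.2).2
      rw [Subgroup.orderOf_coe, ho] at this
      norm_num at this
    have hnpc := hsetup.hasNormalTwoComplement (hcardB ▸ hO.mul hA)
    obtain ⟨N, hN, hNc, k, hk⟩ := CfsgLib.Transfer.hasNormalPComplement_iff_exists.1 hnpc
    haveI := hN
    haveI : Group.IsSolvable N := hFT (Nat.coprime_two_right.1 hNc)
    haveI : Group.IsSolvable (K ⧸ N) := by
      haveI := (IsPGroup.of_card (n := k) hk : IsPGroup 2 (K ⧸ N)).isNilpotent
      infer_instance
    exact (Group.isSolvable_iff_subgroup_quotient N).mpr ⟨‹_›, ‹_›⟩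
  · -- `|M|` is odd: an invariant Sylow subgroup of `K`
    have hOM : O = M := le_antisymm (Subgroup.map_subtype_le _) fun x hx => (hOmem x).2 ⟨hx, by
      refine Nat.Coprime.symm ((Nat.Prime.coprime_iff_not_dvd Nat.prime_two).2 fun h => h2M ?_)
      exact h.trans (Subgroup.orderOf_dvd_natCard _ hx)⟩
    have hK1 : K ≠ ⊥ := fun h => hKM (h ▸ bot_le)
    obtain ⟨q, hq, hqK⟩ := Nat.exists_prime_and_dvd
      ((Subgroup.one_lt_card_iff_ne_bot K).mpr hK1).ne'
    haveI := Fact.mk hq
    obtain ⟨P, hP⟩ := InvariantNilpotent.exists_invariant_sylow hFT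
      (A := O ⋊[restrictAut hOi] A) (G := K)
      (by rw [hcardB]; exact Nat.Coprime.mul_left hOK
            (hcop.coprime_dvd_right K.card_subgroup_dvd_card)) q
    obtain ⟨hQA, hQO⟩ := hinvK _ hP
    set Q := (P : Subgroup K).map K.subtype with hQdef
    have hMQ : M ≤ Subgroup.normalizer (Q : Set G) := hOM ▸ hQO
    have hQ1 : Q ≠ ⊥ := fun h => P.ne_bot_of_dvd_card hqK
      ((Subgroup.map_eq_bot_iff_of_injective _ K.subtype_injective).mp h)
    have hQM : ¬ Q ≤ M := fun h => hQ1 (le_bot_iff.1 fun x hx =>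
      (Subgroup.inf_eq_bot_of_coprime hOK).le ⟨hOM.symm ▸ h hx, Subgroup.map_subtype_le _ hx⟩)
    haveI : Q.Normal := Subgroup.normalizer_eq_top_iff.1 <| by
      by_contra h
      exact hQM (Subgroup.le_normalizer.trans
        (hMmax _ hMQ h (InvariantNilpotent.isInv_normalizer hQA)).le)
    have hsupQ : M ⊔ Q = ⊤ := by
      by_contra h
      refine hQM (le_sup_right.trans (hMmax _ le_sup_left h ?_).le)
      intro a x hx
      obtain ⟨m, hm, k, hk, rfl⟩ := Subgroup.mem_sup_of_normal_right.1 hx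
      rw [smul_mul']
      exact Subgroup.mul_mem_sup (hMi a m hm) (hQA a k hk)
    haveI : Group.IsSolvable Q := by
      haveI := (P.2.map K.subtype : IsPGroup q Q).isNilpotent
      infer_instance
    haveI : Group.IsSolvable (G ⧸ Q) := by
      refine Group.isSolvable_of_surjective (f := (QuotientGroup.mk' Q).comp M.subtype) fun x => ?_
      obtain ⟨g, rfl⟩ := QuotientGroup.mk'_surjective Q x
      obtain ⟨a, ha, b, hb, rfl⟩ := Subgroup.mem_sup_of_normal_right.1
        (hsupQ ▸ Subgroup.mem_top g : g ∈ M ⊔ Q)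
      exact ⟨⟨a, ha⟩, by simp [(QuotientGroup.eq_one_iff b).mpr hb]⟩
    haveI : Group.IsSolvable G := (Group.isSolvable_iff_subgroup_quotient Q).mpr ⟨‹_›, ‹_›⟩
    infer_instance

end CfsgLib.OddCons.NilpotentMaximal

namespace CfsgLib.OddCons.NilpotentMaximal

universe w

/-- The theorem with the action given by a homomorphism and the class by `nilpotencyClass`. -/
theorem isSolvable_of_hom {G : Type w} {A : Type*} [Group G] [Finite G] [Group A] [Finite A]
    (hFT : CfsgLib.OddStep.P0205.{w}) (φ : A →* MulAut G)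
    (hcop : (Nat.card A).Coprime (Nat.card G)) (M : Subgroup G) (hMtop : M ≠ ⊤)
    (hMinv : ∀ a : A, ∀ m : G, m ∈ M → φ a m ∈ M)
    (hMmax : ∀ H : Subgroup G, M ≤ H → H ≠ ⊤ → (∀ a : A, ∀ h : G, h ∈ H → φ a h ∈ H) → H = M)
    (hnil : Group.IsNilpotent M)
    (h2 : ∀ S : Sylow 2 M, Group.nilpotencyClass (S : Subgroup M) ≤ 2) :
    Group.IsSolvable G := by
  letI : MulDistribMulAction A G := MulDistribMulAction.compHom G φ
  refine isSolvable (A := A) hFT _ G rfl hcop M hMtop hMinv hMmax hnil ?_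
  intro a ha b hb c hc ha2 hb2 hc2
  haveI : Fact (Nat.Prime 2) := ⟨Nat.prime_two⟩
  haveI := hnil
  let T : Sylow 2 M := default
  haveI hTn : (T : Subgroup M).Normal := inferInstance
  haveI := T.2.isNilpotent
  have hmem : ∀ x (hx : x ∈ M), (∃ k : ℕ, orderOf x ∣ 2 ^ k) → (⟨x, hx⟩ : M) ∈ (T : Subgroup M) := by
    rintro x hx ⟨k, hk⟩
    obtain ⟨T', hT'⟩ := (IsPGroup.of_card_dvd_pow (p := 2) (n := k)
      (show Nat.card (Subgroup.zpowers (⟨x, hx⟩ : M)) ∣ 2 ^ k by
        rw [Nat.card_zpowers, ← Subgroup.orderOf_coe]; exact hk)).exists_le_sylow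
    haveI := Sylow.unique_of_normal T hTn
    exact (Subsingleton.elim T' T) ▸ hT' (Subgroup.mem_zpowers _)
  let a' : (T : Subgroup M) := ⟨⟨a, ha⟩, hmem a ha ha2⟩
  let b' : (T : Subgroup M) := ⟨⟨b, hb⟩, hmem b hb hb2⟩
  let c' : (T : Subgroup M) := ⟨⟨c, hc⟩, hmem c hc hc2⟩
  have htop : Subgroup.upperCentralSeries (T : Subgroup M) 2 = ⊤ :=
    Subgroup.upperCentralSeries_eq_top_iff_nilpotencyClass_le.mpr (h2 T)
  have h := htop ▸ Subgroup.mem_top a'
  rw [Subgroup.mem_upperCentralSeries_succ_iff] at h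
  have h1 := h b'
  rw [Subgroup.upperCentralSeries_one, commutatorElement_def] at h1
  exact congrArg (fun z : (T : Subgroup M) => ((z : M) : G)) (Subgroup.mem_center_iff.mp h1 c').symm

end CfsgLib.OddCons.NilpotentMaximal
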